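import Groth.Agent.Lib.ModM1.Stalk
import Groth.Agent.Lib.CubeField.Fin
import Groth.Prelude.Def_PicF2

/-!
# The ideal of the zero scheme of a section
-/

set_option autoImplicit false
set_option backward.isDefEq.respectTransparency false
set_option backward.isDefEq.respectTransparency.types false

universe u

noncomputable section

open CategoryTheory AlgebraicGeometry TopologicalSpace Opposite

namespace Groth.Agent.MeroLib

variable {X : Scheme.{u}} (L : X.Modules) (s : Coh.structureModule X ⟶ L)

/-- The value of the section over an open. -/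
abbrev sval (U : X.Opens) : Γ(L, U) := PicF2.secVal L s U

theorem mres_sval {U V : X.Opens} (h : V ≤ U) : M1.mres L h (sval L s U) = sval L s V :=
  (PresheafOfModules.naturality_apply s.val (homOfLE h).op (1 : X.ringCatSheaf.obj.obj (op U))).symm.trans
    (congrArg (s.val.app (op V)) (map_one (X.presheaf.map (homOfLE h).op).hom))

/-- The ideal of functions mapping the module into the span of the section. -/
def zI (U : X.Opens) : Ideal Γ(X, U) := show Ideal Γ(X, U) from PicF2.zeroIdealOn L s U

theorem mem_zI {U : X.Opens} {a : Γ(X, U)} :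
    a ∈ zI L s U ↔ ∀ m : Γ(L, U), ∃ b : Γ(X, U), a • m = b • sval L s U := Iff.rfl

theorem map_zI (hQ : Coh.IsQCoh L) (hFT : CohB1.IsFT L) {U : X.Opens} (hU : IsAffineOpen U) (f : Γ(X, U)) :
    (zI L s U).map (M1.ores (X.basicOpen_le f)).hom = zI L s (X.basicOpen f) := by
  classical
  haveI := hQ
  haveI := M1.finite_sections hQ hFT hU
  obtain ⟨S, hS⟩ := Module.Finite.fg_top (R := Γ(X, U)) (M := Γ(L, U))
  set r := M1.ores (X.basicOpen_le f) with hr
  let := (r.hom).toAlgebra
  have hloc := hU.isLocalization_basicOpen f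
  have hfu : IsUnit (r f) := X.toRingedSpace.isUnit_res_basicOpen f
  refine le_antisymm (Ideal.map_le_iff_le_comap.2 fun a ha => (mem_zI L s).2 fun m => ?_) fun a ha => ?_
  · obtain ⟨k, m₀, hm₀⟩ := M1.exists_pow_smul_eq_res_affine L hU f m
    obtain ⟨b, hb⟩ := (mem_zI L s).1 ha m₀
    obtain ⟨w, hw⟩ := (hfu.pow k).exists_left_inv
    refine ⟨w * r b, ?_⟩
    have h1 := congrArg (M1.mres L (X.basicOpen_le f)) hb
    rw [M1.mres_smul, M1.mres_smul, hm₀, mres_sval] at h1
    rw [mul_smul, ← h1, ← mul_smul, ← mul_smul]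
    congr 1
    show r a = w * r a * r f ^ k
    linear_combination -(r a) * hw
  · obtain ⟨⟨a', fk⟩, hak⟩ := IsLocalization.surj (Submonoid.powers f) a
    have hak' : a * r fk.1 = r a' := hak
    have key : ∀ m : Γ(L, U), ∃ N : ℕ, ∃ b : Γ(X, U), (f ^ N * a') • m = b • sval L s U := by
      intro m
      obtain ⟨b₀, hb₀⟩ := (mem_zI L s).1 ((zI L s (X.basicOpen f)).mul_mem_right (r fk.1) ha)
        (M1.mres L (X.basicOpen_le f) m)
      rw [hak'] at hb₀
      obtain ⟨⟨b', fl⟩, hbl⟩ := IsLocalization.surj (Submonoid.powers f) b₀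
      have hbl' : b₀ * r fl.1 = r b' := hbl
      obtain ⟨n, hn⟩ := M1.exists_pow_smul_eq_zero_affine L hU f ((fl.1 * a') • m - b' • sval L s U) (by
        rw [map_sub, M1.mres_smul, M1.mres_smul, mres_sval, map_mul, ← hbl', mul_smul, hb₀, ← mul_smul,
          mul_comm, sub_self])
      obtain ⟨l, hl⟩ := fl.2
      refine ⟨n + l, f ^ n * b', ?_⟩
      rw [smul_sub, sub_eq_zero, ← mul_smul, ← mul_smul, show fl.1 = f ^ l from hl.symm] at hn
      rw [pow_add, mul_assoc]
      exact hn
    choose N b hb using key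
    obtain ⟨M, hM⟩ : ∃ M, ∀ m ∈ S, N m ≤ M := ⟨S.sup N, fun m hm => Finset.le_sup hm⟩
    have hmem : f ^ M * a' ∈ zI L s U := by
      refine (mem_zI L s).2 fun m => ?_
      have hm : m ∈ Submodule.span Γ(X, U) (S : Set Γ(L, U)) := by rw [hS]; trivial
      induction hm using Submodule.span_induction with
      | mem x hx =>
        obtain ⟨d, hd⟩ := Nat.exists_eq_add_of_le (hM x hx)
        refine ⟨f ^ d * b x, ?_⟩
        rw [mul_smul (f ^ d), ← hb x, ← mul_smul, hd, pow_add]
        ring_nf
      | zero => exact ⟨0, by rw [smul_zero, zero_smul]⟩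
      | add x y _ _ hx hy =>
        obtain ⟨bx, hbx⟩ := hx
        obtain ⟨by', hby⟩ := hy
        exact ⟨bx + by', by rw [smul_add, hbx, hby, add_smul]⟩
      | smul c x _ hx =>
        obtain ⟨bx, hbx⟩ := hx
        exact ⟨c * bx, by rw [smul_comm, hbx, mul_smul]⟩
    obtain ⟨k, hk⟩ := fk.2
    have h2 : r (f ^ M * a') = a * r f ^ (M + k) := by
      rw [map_mul, ← hak', map_pow, show fk.1 = f ^ k from hk.symm, map_pow, pow_add]
      ring
    obtain ⟨w, hw⟩ := (hfu.pow (M + k)).exists_left_inv
    have h3 : a = r (f ^ M * a') * w := by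
      rw [h2, mul_assoc, mul_comm _ w, hw, mul_one]
    rw [h3]
    exact Ideal.mul_mem_right _ _ (Ideal.mem_map_of_mem _ hmem)

/-- The values of the zero scheme on affine opens. -/
theorem zeroScheme_ideal (hL : PicF.IsInvertible L) (U : X.affineOpens) :
    (PicF2.zeroScheme L s).ideal U = zI L s U.1 := by
  have hC := CubeField.isCoh_of_isInvertible hL
  let J : X.IdealSheafData :=
    { ideal := fun V => zI L s V.1
      map_ideal_basicOpen := fun V f => map_zI L s hC.1 hC.2 V.2 f }
  refine le_antisymm (Scheme.IdealSheafData.ideal_ofIdeals_le _ U) ?_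
  exact (Scheme.IdealSheafData.le_ofIdeals_iff (I := J)).2 (fun V => le_rfl) U

/-- The zero ideal in terms of a generator. -/
theorem zI_eq_span {U : X.Opens} (e : Γ(L, U))
    (he : Function.Bijective fun r : Γ(X, U) => r • e) (c : Γ(X, U)) (hc : sval L s U = c • e) :
    zI L s U = Ideal.span {c} := by
  ext a
  rw [Ideal.mem_span_singleton', mem_zI]
  constructor
  · intro h
    obtain ⟨b, hb⟩ := h e
    refine ⟨b, he.1 ?_⟩
    change (b * c) • e = a • e
    rw [mul_smul, ← hc, hb]
  · rintro ⟨b, rfl⟩ m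
    obtain ⟨r, rfl⟩ := he.2 m
    refine ⟨b * r, ?_⟩
    rw [hc, ← mul_smul, ← mul_smul]
    congr 1
    ring

end Groth.Agent.MeroLib
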