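import Groth.Agent.Lib.MeroLib.Basic
import Groth.Agent.Lib.Twist.Triv

/-!
# The module of a divisor
-/

set_option autoImplicit false
set_option backward.isDefEq.respectTransparency false

universe u

noncomputable section

open CategoryTheory AlgebraicGeometry TopologicalSpace Opposite

namespace Groth.Agent.MeroLib

variable {X : Scheme.{u}}

/-- The value at a point of a global unit. -/
abbrev unitAt {U : X.Opens} (f : (Γ(Mero.kmod X, U))ˣ) (x : U) : (Mero.KStalk X x.1)ˣ :=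
  Units.map (Mero.evalK X U x).toMonoidHom f

/-- A section of the module of a divisor as a meromorphic function. -/
def toKm {D : Mero.Divisor X} {U : X.Opens} (t : Γ(Mero.divMod D, U)) : Γ(Mero.kmod X, U) := ⟨t.1, t.2.1⟩

variable {D D' : Mero.Divisor X} (f : (Γ(Mero.kmod X, (⊤ : X.Opens)))ˣ)
  (h : ∀ x : X, D.1 x = D'.1 x * Mero.germOf f ⟨x, Opens.mem_top x⟩)

include h in
theorem divCond_mul (x : X) (t : Mero.KStalk X x) (ht : Mero.DivCond D x t) :
    Mero.DivCond D' x (t * unitAt f ⟨x, Opens.mem_top x⟩) := by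
  obtain ⟨g', hg'⟩ := QuotientGroup.mk_surjective (D'.1 x)
  have hg : D.1 x = QuotientGroup.mk (g' * unitAt f ⟨x, Opens.mem_top x⟩) := by
    rw [h x, ← hg', QuotientGroup.mk_mul]
  refine (divCond_iff D' x _ g' hg'.symm).2 ?_
  have := ht _ hg
  rwa [Units.val_mul, mul_comm (g' : Mero.KStalk X x), ← mul_assoc] at this

/-- Multiplication by a meromorphic function between modules of divisors. -/
def mulHom : Mero.divMod D ⟶ Mero.divMod D' :=
  ⟨PresheafOfModules.homMk (M₁ := (Mero.divMod D).val) (M₂ := (Mero.divMod D').val)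
    { app := fun U => AddCommGrpCat.ofHom
        { toFun := fun (t : Γ(Mero.divMod D, U.unop)) =>
            (⟨((toKm t) *
              (Mero.kmod X).presheaf.map (homOfLE le_top).op (f : Γ(Mero.kmod X, (⊤ : X.Opens)))).1,
              ⟨Mero.kLoc_mul X U.unop _ _ t.2.1
                  ((Mero.kmod X).presheaf.map (homOfLE le_top).op (f : Γ(Mero.kmod X, (⊤ : X.Opens)))).2,
                fun x => divCond_mul f h x.1 _ (t.2.2 x)⟩⟩ : Γ(Mero.divMod D', U.unop))
          map_zero' := Subtype.ext (funext fun x => zero_mul _)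
          map_add' := fun _ _ => Subtype.ext (funext fun x => add_mul _ _ _) }
      naturality := by intros; rfl }
    (fun U r t => Subtype.ext (funext fun x => smul_mul_assoc _ _ _))⟩

theorem mulHom_val {U : X.Opens} (t : Γ(Mero.divMod D, U)) (x : U) :
    ((mulHom f h).val.app (op U) t).1 x = t.1 x * (f : Γ(Mero.kmod X, (⊤ : X.Opens))).1 ⟨x.1, Opens.mem_top x.1⟩ := rfl

include h in
theorem inv_rel (x : X) : D'.1 x = D.1 x * Mero.germOf f⁻¹ ⟨x, Opens.mem_top x⟩ := by
  rw [h x, mul_assoc]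
  change D'.1 x = D'.1 x * (QuotientGroup.mk (unitAt f ⟨x, _⟩) * QuotientGroup.mk (unitAt f⁻¹ ⟨x, _⟩))
  rw [← QuotientGroup.mk_mul, unitAt, unitAt, map_inv, mul_inv_cancel, QuotientGroup.mk_one]
  exact (mul_one (D'.1 x : Mero.Germ X x)).symm

/-- Linearly equivalent divisors have isomorphic modules. -/
def mulIso : Mero.divMod D ≅ Mero.divMod D' where
  hom := mulHom f h
  inv := mulHom f⁻¹ (inv_rel f h)
  hom_inv_id := by
    apply Scheme.Modules.hom_ext
    intro U
    ext t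
    refine Subtype.ext (funext fun x => ?_)
    change (toKm t).1 x * (unitAt f ⟨x.1, Opens.mem_top x.1⟩ : Mero.KStalk X x.1) *
      (unitAt f⁻¹ ⟨x.1, Opens.mem_top x.1⟩ : Mero.KStalk X x.1) = (toKm t).1 x
    rw [mul_assoc, ← Units.val_mul, unitAt, unitAt, map_inv, mul_inv_cancel, Units.val_one, mul_one]
  inv_hom_id := by
    apply Scheme.Modules.hom_ext
    intro U
    ext t
    refine Subtype.ext (funext fun x => ?_)
    change (toKm t).1 x * (unitAt f⁻¹ ⟨x.1, Opens.mem_top x.1⟩ : Mero.KStalk X x.1) *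
      (unitAt f ⟨x.1, Opens.mem_top x.1⟩ : Mero.KStalk X x.1) = (toKm t).1 x
    rw [mul_assoc, ← Units.val_mul, unitAt, unitAt, map_inv, inv_mul_cancel, Units.val_one, mul_one]

/-- The inverse of a local equation is a section of the module of the divisor. -/
def genSec (D : Mero.Divisor X) {U : X.Opens} (g : (Γ(Mero.kmod X, U))ˣ)
    (hg : ∀ y : U, D.1 y.1 = Mero.germOf g y) : Γ(Mero.divMod D, U) :=
  ⟨((g⁻¹ : (Γ(Mero.kmod X, U))ˣ) : Γ(Mero.kmod X, U)).1, ⟨((g⁻¹ : (Γ(Mero.kmod X, U))ˣ) : Γ(Mero.kmod X, U)).2,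
    fun y => (divCond_iff D y.1 _ _ (hg y)).2 ⟨1, by
      rw [map_one]
      exact (congrFun (congrArg Subtype.val g.inv_mul) y).symm⟩⟩⟩

theorem genSec_bijective (D : Mero.Divisor X) {U : X.Opens} (g : (Γ(Mero.kmod X, U))ˣ)
    (hg : ∀ y : U, D.1 y.1 = Mero.germOf g y) (V : X.Opens) (hV : V ≤ U) :
    Function.Bijective fun r : Γ(X, V) => r • M1.mres (Mero.divMod D) hV (genSec D g hg) := by
  have hval : ∀ (r : Γ(X, V)) (y : V),
      (r • M1.mres (Mero.divMod D) hV (genSec D g hg)).1 y * (g : Γ(Mero.kmod X, U)).1 ⟨y.1, hV y.2⟩ =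
        algebraMap _ (Mero.KStalk X y.1) (X.presheaf.germ V y.1 y.2 r) := fun r y => by
    change (X.presheaf.germ V y.1 y.2 r • ((g⁻¹ : (Γ(Mero.kmod X, U))ˣ) : Γ(Mero.kmod X, U)).1 ⟨y.1, hV y.2⟩) * _ = _
    rw [smul_mul_assoc, ← Mero.kmod_mul_apply, Units.inv_mul, Mero.kmod_one_apply, Algebra.smul_def, mul_one]
  constructor
  · intro r r' h
    refine TopCat.Presheaf.section_ext X.sheaf V r r' fun y hy => ?_
    refine Mero.algebraMap_KStalk_injective y ?_
    exact (hval r ⟨y, hy⟩).symm.trans ((congrArg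
      (fun s : Γ(Mero.divMod D, V) => s.1 ⟨y, hy⟩ * (g : Γ(Mero.kmod X, U)).1 ⟨y, hV hy⟩) h).trans
      (hval r' ⟨y, hy⟩))
  · intro t
    let t' : Γ(Mero.kmod X, V) := toKm t *
      (Mero.kmod X).presheaf.map (homOfLE hV).op (g : Γ(Mero.kmod X, U))
    obtain ⟨r, hr⟩ := exists_section t' fun y => by
      change t.1 y * (g : Γ(Mero.kmod X, U)).1 ⟨y.1, hV y.2⟩ ∈ _
      exact t.2.2 y (unitAt g ⟨y.1, hV y.2⟩) (hg ⟨y.1, hV y.2⟩)
    refine ⟨r, Subtype.ext (funext fun y => ?_)⟩
    have h1 := congrFun (congrArg Subtype.val hr) y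
    rw [toK_val, ← hval r y] at h1
    exact (unitAt g ⟨y.1, hV y.2⟩).isUnit.mul_right_cancel h1

theorem isInvertible_divMod (D : Mero.Divisor X) : PicF.IsInvertible (Mero.divMod D) := fun x => by
  obtain ⟨U, hxU, g, hU⟩ := D.2 x
  exact ⟨U, hxU, Twist.nonempty_restrict_iso _ U (genSec D g hU) (genSec_bijective D g hU)⟩

end Groth.Agent.MeroLib
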