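import Groth.Prelude.Def_MeroDiv
import Groth.Agent.Lib.WeakAss18.Mero
import Mathlib.AlgebraicGeometry.Noetherian

/-!
# Sections of the sheaf of meromorphic functions
-/

set_option autoImplicit false
set_option backward.isDefEq.respectTransparency false

universe u

noncomputable section

open CategoryTheory AlgebraicGeometry TopologicalSpace Opposite

namespace Groth.Agent.MeroLib

variable {X : Scheme.{u}}

theorem algebraMap_eq_mk {x : X} (a : X.presheaf.stalk x) :
    algebraMap (X.presheaf.stalk x) (Mero.KStalk X x) a = LocalizedModule.mk a 1 := rfl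

theorem toK_val {U : X.Opens} (r : Γ(X, U)) (x : U) :
    (Mero.toK X U r).1 x = algebraMap _ (Mero.KStalk X x.1) (X.presheaf.germ U x.1 x.2 r) := rfl

theorem kmod_ext {U : X.Opens} {s t : Γ(Mero.kmod X, U)} (h : ∀ x : U, s.1 x = t.1 x) : s = t :=
  Subtype.ext (funext h)

/-- A meromorphic function which is everywhere a regular germ is a function. -/
theorem exists_section {U : X.Opens} (t : Γ(Mero.kmod X, U))
    (h : ∀ x : U, t.1 x ∈ (algebraMap (X.presheaf.stalk x.1) (Mero.KStalk X x.1)).range) :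
    ∃ r : Γ(X, U), Mero.toK X U r = t := by
  have hloc : ∀ x : U, ∃ (V : X.Opens) (_ : x.1 ∈ V) (hVU : V ≤ U) (r : Γ(X, V)),
      ∀ y : V, t.1 ⟨y.1, hVU y.2⟩ = algebraMap _ (Mero.KStalk X y.1) (X.presheaf.germ V y.1 y.2 r) := by
    intro x
    obtain ⟨W, hxW, i, a, b, hab⟩ := t.2 x
    obtain ⟨w, hw⟩ := h x
    obtain ⟨W', hxW', r, rfl⟩ := X.presheaf.exists_germ_eq w
    have h1 := WA.mk_eq_div (X.presheaf.germ W x.1 hxW a) (Mero.regGerm ⟨x.1, hxW⟩ b)
    rw [← show t.1 x = LocalizedModule.mk (X.presheaf.germ W x.1 hxW a) (Mero.regGerm ⟨x.1, hxW⟩ b) from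
      hab ⟨x.1, hxW⟩, ← hw, ← map_mul] at h1
    have h2 := Mero.algebraMap_KStalk_injective x.1 h1
    have h3 : X.presheaf.germ (W ⊓ W') x.1 ⟨hxW, hxW'⟩ (X.presheaf.map (homOfLE inf_le_right).op r *
        X.presheaf.map (homOfLE inf_le_left).op b.1) =
        X.presheaf.germ (W ⊓ W') x.1 ⟨hxW, hxW'⟩ (X.presheaf.map (homOfLE inf_le_left).op a) := by
      rw [map_mul, TopCat.Presheaf.germ_res_apply, TopCat.Presheaf.germ_res_apply,
        TopCat.Presheaf.germ_res_apply]
      exact h2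
    obtain ⟨V, hxV, j, j', e⟩ := X.presheaf.germ_eq x.1 _ _ _ _ h3
    refine ⟨V, hxV, j.le.trans (inf_le_left.trans i.le), X.presheaf.map (homOfLE (j.le.trans inf_le_right)).op r,
      fun y => ?_⟩
    have h4 := congrArg (X.presheaf.germ V y.1 y.2) e
    rw [TopCat.Presheaf.germ_res_apply, TopCat.Presheaf.germ_res_apply, map_mul, TopCat.Presheaf.germ_res_apply,
      TopCat.Presheaf.germ_res_apply, TopCat.Presheaf.germ_res_apply] at h4
    rw [show t.1 ⟨y.1, (j.le.trans (inf_le_left.trans i.le)) y.2⟩ = LocalizedModule.mk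
        (X.presheaf.germ W y.1 (inf_le_left (a := W) (j.le y.2)) a)
        (Mero.regGerm ⟨y.1, inf_le_left (a := W) (j.le y.2)⟩ b) from hab ⟨y.1, inf_le_left (a := W) (j.le y.2)⟩,
      TopCat.Presheaf.germ_res_apply, algebraMap_eq_mk, LocalizedModule.mk_eq]
    refine ⟨1, ?_⟩
    simp only [Submonoid.smul_def, smul_eq_mul, OneMemClass.coe_one, one_mul]
    rw [← h4, mul_comm]
  choose V hxV hVU r hr using hloc
  have hcov : U ≤ ⨆ x : U, V x := fun z hz => Opens.mem_iSup.mpr ⟨⟨z, hz⟩, hxV ⟨z, hz⟩⟩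
  have hcomp : TopCat.Presheaf.IsCompatible X.sheaf.obj V r := fun x y => by
    refine TopCat.Presheaf.section_ext X.sheaf _ _ _ fun z hz => ?_
    change X.presheaf.germ _ z hz (X.presheaf.map _ (r x)) = X.presheaf.germ _ z hz (X.presheaf.map _ (r y))
    rw [TopCat.Presheaf.germ_res_apply, TopCat.Presheaf.germ_res_apply]
    exact Mero.algebraMap_KStalk_injective z ((hr x ⟨z, hz.1⟩).symm.trans (hr y ⟨z, hz.2⟩))
  obtain ⟨s, hs, -⟩ := X.sheaf.existsUnique_gluing' V U (fun x => homOfLE (hVU x)) hcov r hcomp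
  refine ⟨s, kmod_ext fun z => ?_⟩
  rw [toK_val, show t.1 z = algebraMap _ (Mero.KStalk X z.1) (X.presheaf.germ (V z) z.1 (hxV z) (r z)) from
    hr z ⟨z.1, hxV z⟩]
  congr 1
  rw [← hs z]
  exact (TopCat.Presheaf.germ_res_apply X.presheaf _ _ _ _).symm

/-- The divisor condition may be tested on one representative. -/
theorem divCond_iff (D : Mero.Divisor X) (x : X) (t : Mero.KStalk X x) (g : (Mero.KStalk X x)ˣ)
    (hg : D.1 x = QuotientGroup.mk g) :
    Mero.DivCond D x t ↔ t * g ∈ (algebraMap (X.presheaf.stalk x) (Mero.KStalk X x)).range := by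
  refine ⟨fun h => h g hg, fun h g' hg' => ?_⟩
  rw [hg, QuotientGroup.eq] at hg'
  obtain ⟨w, hw⟩ := hg'
  have hwv : ((g⁻¹ * g' : (Mero.KStalk X x)ˣ) : Mero.KStalk X x) =
      algebraMap (X.presheaf.stalk x) (Mero.KStalk X x) w := by rw [← hw]; rfl
  have e : t * (g' : Mero.KStalk X x) = t * g * ((g⁻¹ * g' : (Mero.KStalk X x)ˣ) : Mero.KStalk X x) := by
    rw [mul_assoc, ← Units.val_mul, mul_inv_cancel_left]
  rw [e, hwv]
  exact mul_mem h ⟨_, rfl⟩

/-- Two germs with the same inverse fractional ideals agree. -/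
theorem germ_eq_of_range {x : X} (g g' : (Mero.KStalk X x)ˣ)
    (h : ((g⁻¹ : (Mero.KStalk X x)ˣ) : Mero.KStalk X x) * g' ∈ (algebraMap (X.presheaf.stalk x) (Mero.KStalk X x)).range)
    (h' : ((g'⁻¹ : (Mero.KStalk X x)ˣ) : Mero.KStalk X x) * g ∈ (algebraMap (X.presheaf.stalk x) (Mero.KStalk X x)).range) :
    (QuotientGroup.mk g : Mero.Germ X x) = QuotientGroup.mk g' := by
  obtain ⟨a, ha⟩ := h
  obtain ⟨b, hb⟩ := h'
  rw [QuotientGroup.eq]
  have hab : a * b = 1 := by
    apply Mero.algebraMap_KStalk_injective x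
    rw [map_mul, ha, hb, map_one, mul_mul_mul_comm, mul_comm (g' : Mero.KStalk X x), ← mul_mul_mul_comm,
      Units.inv_mul, Units.inv_mul, one_mul]
  exact ⟨Units.mkOfMulEqOne a b hab, Units.ext ha⟩

/-- Weakly associated points of the structure sheaf give associated maximal ideals. -/
theorem isAssociated_of_weakAss {y : X} (hwa : Curv2.IsWeakAssPoint (Coh.structureModule X) y) :
    IsAssociatedPrime (IsLocalRing.maximalIdeal (X.presheaf.stalk y)) (X.presheaf.stalk y) := by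
  haveI := M1.isQCoh_structureModule X
  obtain ⟨U, hU, hy, -⟩ := exists_isAffineOpen_mem_and_subset (U := (⊤ : X.Opens)) (x := y) trivial
  let := TopCat.Presheaf.algebra_section_stalk X.presheaf (⟨y, hy⟩ : U)
  have := hU.isLocalization_stalk ⟨y, hy⟩
  obtain ⟨m, hm⟩ := hwa
  obtain ⟨r, β, hr, hrβ⟩ := M1.exists_germ_smul_eq (Coh.structureModule X) hU hy m
  refine ⟨inferInstance, X.presheaf.germ U y hy (show Γ(X, U) from β), hm.symm.trans ?_⟩
  congr 1
  ext z
  obtain ⟨⟨a, c⟩, hac⟩ := IsLocalization.surj (hU.primeIdealOf ⟨y, hy⟩).asIdeal.primeCompl z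
  have hac : z * X.presheaf.germ U y hy c = X.presheaf.germ U y hy a := hac
  have hcu : IsUnit (X.presheaf.germ U y hy c) := (M1.isUnit_germ_iff hU hy c).mpr c.2
  have e1 : z • m = 0 ↔ (Coh.structureModule X).presheaf.germ U y hy (a • β) = 0 := by
    obtain ⟨u₁, hu₁⟩ := hr
    obtain ⟨u₂, hu₂⟩ := hcu
    rw [M1.germ_smul, ← hrβ, ← mul_smul, ← hac, ← hu₁, ← hu₂,
      show z * (u₂ : X.presheaf.stalk y) * u₁ = ((u₂ * u₁ : (X.presheaf.stalk y)ˣ) : X.presheaf.stalk y) * z from by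
        push_cast; ring, mul_smul, ← Units.smul_def, smul_eq_zero_iff_eq]
  rw [LinearMap.mem_ker, LinearMap.toSpanSingleton_apply, e1, Submodule.mem_colon_singleton, Submodule.mem_bot]
  change (Coh.structureModule X).presheaf.germ U y hy (show Γ(Coh.structureModule X, U) from a * (show Γ(X, U) from β)) = 0 ↔ _
  rw [WA.germ_O_eq_zero_iff, map_mul, smul_eq_mul, ← hac, mul_right_comm]
  exact ⟨fun h => hcu.mul_left_eq_zero.mp h, fun h => by rw [h, zero_mul]⟩

end Groth.Agent.MeroLib
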