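import Groth.Agent.Lib.MeroLib.FinWA
import Groth.Agent.Lib.CDivLib.Mero
import Mathlib.AlgebraicGeometry.Noetherian
import Mathlib.RingTheory.KrullDimension.Basic

/-!
# Divisors on absolute curves
-/

set_option autoImplicit false
set_option backward.isDefEq.respectTransparency false

universe u

noncomputable section

open CategoryTheory AlgebraicGeometry TopologicalSpace Opposite

namespace Groth.Agent.MeroLib

variable {C : Scheme.{u}} [IsNoetherian C]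
  (hC : ∀ x : C, IsClosed ({x} : Set C) → ringKrullDim (C.presheaf.stalk x) = 1)

include hC in
/-- A point that is not closed is maximal. -/
theorem eq_of_specializes_of_not_closed {y z : C} (hy : ¬ IsClosed ({y} : Set C)) (hzy : z ⤳ y) : z = y := by
  obtain ⟨x, hxcl, hxclosed⟩ := (isClosed_closure (s := ({y} : Set C))).exists_closed_singleton ⟨y, subset_closure rfl⟩
  have hyx : y ⤳ x := specializes_iff_mem_closure.2 hxcl
  have hxy : x ≠ y := fun h => hy (h ▸ hxclosed)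
  obtain ⟨W, hW, hxW, -⟩ := exists_isAffineOpen_mem_and_subset (U := (⊤ : C.Opens)) (x := x) trivial
  have hyW : y ∈ W := hyx.mem_open W.isOpen hxW
  have hzW : z ∈ W := hzy.mem_open W.isOpen hyW
  have hle : ∀ {a b : C} (ha : a ∈ W) (hb : b ∈ W), a ⤳ b →
      (hW.primeIdealOf ⟨a, ha⟩).asIdeal ≤ (hW.primeIdealOf ⟨b, hb⟩).asIdeal := by
    intro a b ha hb h r hr
    by_contra hr'
    exact (M1.isUnit_germ_iff hW ha r).1 ((C.mem_basicOpen r a ha).1
      (h.mem_open (C.basicOpen r).isOpen ((C.mem_basicOpen r b hb).2 ((M1.isUnit_germ_iff hW hb r).2 hr')))) hr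
  have hinj : ∀ {a b : C} (ha : a ∈ W) (hb : b ∈ W),
      (hW.primeIdealOf ⟨a, ha⟩).asIdeal = (hW.primeIdealOf ⟨b, hb⟩).asIdeal → a = b := by
    intro a b ha hb h
    have h3 := congrArg hW.fromSpec (PrimeSpectrum.ext h)
    rwa [hW.fromSpec_primeIdealOf, hW.fromSpec_primeIdealOf] at h3
  by_contra hne
  have l1 : (hW.primeIdealOf ⟨z, hzW⟩).asIdeal < (hW.primeIdealOf ⟨y, hyW⟩).asIdeal :=
    lt_of_le_of_ne (hle hzW hyW hzy) fun h => hne (hinj hzW hyW h)
  have l2 : (hW.primeIdealOf ⟨y, hyW⟩).asIdeal < (hW.primeIdealOf ⟨x, hxW⟩).asIdeal :=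
    lt_of_le_of_ne (hle hyW hxW hyx) fun h => hxy (hinj hyW hxW h).symm
  let := TopCat.Presheaf.algebra_section_stalk C.presheaf (⟨x, hxW⟩ : W)
  have hloc : IsLocalization.AtPrime (C.presheaf.stalk x) (hW.primeIdealOf ⟨x, hxW⟩).asIdeal :=
    hW.isLocalization_stalk ⟨x, hxW⟩
  have hdim := hC x hxclosed
  rw [IsLocalization.AtPrime.ringKrullDim_eq_height (hW.primeIdealOf ⟨x, hxW⟩).asIdeal] at hdim
  haveI : IsNoetherianRing Γ(C, W) := IsLocallyNoetherian.component_noetherian ⟨W, hW⟩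
  haveI := (hW.primeIdealOf ⟨z, hzW⟩).isPrime
  haveI := (hW.primeIdealOf ⟨y, hyW⟩).isPrime
  have h1 := Ideal.height_strict_mono_of_isPrime l1
  have h2 := Ideal.height_strict_mono_of_isPrime l2
  have hdim' : (hW.primeIdealOf ⟨x, hxW⟩).asIdeal.height = 1 := by exact_mod_cast hdim
  rw [hdim', Order.lt_one_iff] at h2
  rw [h2] at h1
  exact not_lt_bot h1

include hC in
/-- Regular germs at a point that is not closed are units. -/
theorem isUnit_of_not_closed {y : C} (hy : ¬ IsClosed ({y} : Set C)) {W : C.Opens} (hyW : y ∈ W) (a : Γ(C, W))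
    (ha : C.presheaf.germ W y hyW a ∈ nonZeroDivisors (C.presheaf.stalk y)) : IsUnit (C.presheaf.germ W y hyW a) := by
  haveI := M1.isQCoh_structureModule C
  obtain ⟨W', hW', hyW', hle⟩ := exists_isAffineOpen_mem_and_subset (U := W) hyW
  rw [← C.presheaf.germ_res_apply (homOfLE hle) y hyW'] at ha ⊢
  refine WA.isUnit_germ_of_nonZeroDivisors hW' hyW' hyW' specializes_rfl _ ha (WA.isWeakAssPoint_of_maximal ?_ ?_)
  · intro hsub
    have h1 := hsub.elim ((Coh.structureModule C).presheaf.germ W' y hyW'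
      (show Γ(Coh.structureModule C, W') from (1 : Γ(C, W')))) 0
    rw [WA.germ_O_eq_zero_iff, map_one] at h1
    exact one_ne_zero h1
  · exact fun z _ hz => eq_of_specializes_of_not_closed hC hy hz

/-- The germ of a quotient of units is trivial. -/
theorem germ_quot_eq_one {x : C} (u : (Mero.KStalk C x)ˣ) {a b : C.presheaf.stalk x} (ha : IsUnit a) (hb : IsUnit b)
    (h : (u : Mero.KStalk C x) * algebraMap _ _ b = algebraMap _ _ a) : (QuotientGroup.mk u : Mero.Germ C x) = 1 := by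
  rw [QuotientGroup.eq_one_iff]
  refine ⟨ha.unit * hb.unit⁻¹, Units.ext ?_⟩
  change algebraMap (C.presheaf.stalk x) (Mero.KStalk C x) ((ha.unit : C.presheaf.stalk x) * ↑(hb.unit⁻¹)) = (u : Mero.KStalk C x)
  rw [map_mul, IsUnit.unit_spec, ← h, mul_assoc, ← map_mul, IsUnit.mul_val_inv, map_one, mul_one]

omit [AlgebraicGeometry.IsNoetherian C] in
theorem isClosed_notUnit {W : C.Opens} (a : Γ(C, W)) :
    ∃ Z : Set C, IsClosed Z ∧ ∀ y (hy : y ∈ W), (y ∈ Z ↔ ¬ IsUnit (C.presheaf.germ W y hy a)) :=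
  ⟨(C.basicOpen a : Set C)ᶜ, (C.basicOpen a).isOpen.isClosed_compl, fun y hy => by
    rw [Set.mem_compl_iff, SetLike.mem_coe, C.mem_basicOpen a y hy]⟩

include hC in
theorem finite_notUnit {W : C.Opens} (a : Γ(C, W)) (ha : a ∈ Mero.regSub C W) :
    {y : C | ∃ hy : y ∈ W, ¬ IsUnit (C.presheaf.germ W y hy a)}.Finite := by
  obtain ⟨Z, hZ, hZa⟩ := isClosed_notUnit a
  have h1 : ∀ η ∈ W, η ∈ Z → IsClosed ({η} : Set C) := fun η hη hηZ => by
    by_contra h
    exact (hZa η hη).1 hηZ (isUnit_of_not_closed hC h hη a (ha ⟨η, hη⟩))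
  obtain ⟨S, hSfin, hSc, hSi, hS'⟩ := NoetherianSpace.exists_finite_set_isClosed_irreducible hZ
  refine Set.Finite.subset (s := ⋃ t ∈ S, {η | IsGenericPoint η t}) (hSfin.biUnion fun t _ => ?_) ?_
  · exact Set.Subsingleton.finite fun η hη η' hη' => hη.eq hη'
  · rintro y ⟨hy, hu⟩
    have hyZ : y ∈ Z := (hZa y hy).2 hu
    rw [hS'] at hyZ
    obtain ⟨t, ht, hyt⟩ := hyZ
    obtain ⟨η, hη⟩ := QuasiSober.sober (hSi t ht) (hSc t ht)
    have hηy : η ⤳ y := hη.specializes hyt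
    have hηW : η ∈ W := hηy.mem_open W.isOpen hy
    have hηZ : η ∈ Z := hS'.symm ▸ ⟨t, ht, hη.mem⟩
    have h2 := specializes_iff_mem_closure.1 hηy
    rw [(h1 η hηW hηZ).closure_eq] at h2
    have he : y = η := h2
    exact Set.mem_iUnion₂.2 ⟨t, ht, he ▸ hη⟩

include hC in
/-- The support of a divisor consists of finitely many closed points. -/
theorem support_finite (D : Mero.Divisor C) :
    {x : C | D.1 x ≠ 1}.Finite ∧ ∀ x : C, ¬ IsClosed ({x} : Set C) → D.1 x = 1 := by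
  constructor
  · choose E hE using CDivLib.exists_eqn D
    obtain ⟨T, hT⟩ := isCompact_univ.elim_finite_subcover (fun x : C => ((E x).W : Set C)) (fun x => (E x).W.isOpen)
      (fun x _ => Set.mem_iUnion.2 ⟨x, hE x⟩)
    refine (T.finite_toSet.biUnion fun x _ =>
      (finite_notUnit hC (E x).a (E x).ha).union (finite_notUnit hC (E x).b (E x).hb)).subset ?_
    intro y hy
    obtain ⟨x, hx, hyx⟩ := Set.mem_iUnion₂.1 (hT (Set.mem_univ y))
    refine Set.mem_iUnion₂.2 ⟨x, hx, ?_⟩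
    by_contra h
    simp only [Set.mem_union, Set.mem_setOf_eq, not_or, not_exists, not_not] at h
    refine hy ?_
    rw [(E x).hD ⟨y, hyx⟩]
    exact germ_quot_eq_one _ (h.1 hyx) (h.2 hyx) ((E x).hu ⟨y, hyx⟩)
  · intro x hx
    obtain ⟨E, hxE⟩ := CDivLib.exists_eqn D x
    rw [E.hD ⟨x, hxE⟩]
    exact germ_quot_eq_one _ (isUnit_of_not_closed hC hx hxE E.a (E.ha ⟨x, hxE⟩))
      (isUnit_of_not_closed hC hx hxE E.b (E.hb ⟨x, hxE⟩)) (E.hu ⟨x, hxE⟩)

include hC in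
/-- Finitely supported families of germs at closed points are divisors. -/
theorem mem_divisorGroup (g : ∀ x : C, Mero.Germ C x) (hfin : {x : C | g x ≠ 1}.Finite)
    (hcl : ∀ x : C, ¬ IsClosed ({x} : Set C) → g x = 1) : g ∈ Mero.divisorGroup C := by
  classical
  intro x
  obtain ⟨q, hq⟩ := QuotientGroup.mk_surjective (g x)
  obtain ⟨⟨a₀, b₀⟩, hab⟩ := IsLocalization.surj (Mero.regStalk C x) (q : Mero.KStalk C x)
  obtain ⟨V₁, hxV₁, b, hb, hb₀⟩ := b₀.2
  obtain ⟨V₂, hxV₂, a, ha₀⟩ := C.presheaf.exists_germ_eq a₀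
  obtain ⟨W, hW, hxW, hWle'⟩ := exists_isAffineOpen_mem_and_subset (U := V₁ ⊓ V₂) (x := x) ⟨hxV₁, hxV₂⟩
  have hWle : W ≤ V₁ ⊓ V₂ := hWle'
  have haNZD : C.presheaf.germ V₂ x hxV₂ a ∈ nonZeroDivisors (C.presheaf.stalk x) := by
    rw [mem_nonZeroDivisors_iff_right]
    intro z hz
    refine Mero.algebraMap_KStalk_injective x ?_
    have h1 := congrArg (algebraMap _ (Mero.KStalk C x)) hz
    rw [ha₀, map_mul, ← hab, map_zero] at h1
    rw [map_zero]
    exact (q.isUnit.mul (IsLocalization.map_units _ b₀)).mul_left_eq_zero.1 h1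
  haveI := M1.isQCoh_structureModule C
  -- remove the bad points
  have hfinWA := finWA_of_noetherian (X := C) W hW
  let T : Set C := {y | y ∈ W ∧ Curv2.IsWeakAssPoint (Coh.structureModule C) y ∧ ¬ y ⤳ x}
  have hT : T.Finite := hfinWA.subset fun y hy => ⟨hy.1, hy.2.1⟩
  let W₁ : C.Opens := W ⊓ ⟨(⋃ y ∈ T, closure ({y} : Set C))ᶜ,
    (hT.isClosed_biUnion fun _ _ => isClosed_closure).isOpen_compl⟩
  have hW₁W : W₁ ≤ W := inf_le_left
  have hxW₁ : x ∈ W₁ := ⟨hxW, fun h => by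
    obtain ⟨y, hy, hyx⟩ := Set.mem_iUnion₂.1 h
    exact hy.2.2 (specializes_iff_mem_closure.2 hyx)⟩
  let aW : Γ(C, W) := C.presheaf.map (homOfLE (hWle.trans inf_le_right)).op a
  let aW₁ : Γ(C, W₁) := C.presheaf.map (homOfLE hW₁W).op aW
  let bW₁ : Γ(C, W₁) := C.presheaf.map (homOfLE ((hW₁W.trans hWle).trans inf_le_left)).op b
  have haW₁ : aW₁ ∈ Mero.regSub C W₁ := fun z => by
    rw [TopCat.Presheaf.germ_res_apply]
    refine WA.germ_mem_nonZeroDivisors hW (hW₁W z.2) aW fun y hy hyz hwa => ?_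
    have hyx : y ⤳ x := by
      by_contra h
      exact z.2.2 (Set.mem_iUnion₂.2 ⟨y, ⟨hy, hwa, h⟩, specializes_iff_mem_closure.1 hyz⟩)
    refine WA.isUnit_germ_of_nonZeroDivisors hW hxW hy hyx aW ?_ hwa
    rw [TopCat.Presheaf.germ_res_apply]
    exact haNZD
  have hbW₁ : bW₁ ∈ Mero.regSub C W₁ := Mero.regSub_res _ hb
  let F : Set C := ({y | g y ≠ 1} ∪ {y | ∃ hy : y ∈ W₁, ¬ IsUnit (C.presheaf.germ W₁ y hy aW₁)} ∪
    {y | ∃ hy : y ∈ W₁, ¬ IsUnit (C.presheaf.germ W₁ y hy bW₁)}) \ {x}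
  have hF : F.Finite := ((hfin.union (finite_notUnit hC aW₁ haW₁)).union (finite_notUnit hC bW₁ hbW₁)).subset Set.diff_subset
  have hFc : IsClosed F := by
    refine Set.biUnion_of_singleton F ▸ hF.isClosed_biUnion fun y hy => ?_
    by_contra h
    rcases hy.1 with (h1 | ⟨hy', h1⟩) | ⟨hy', h1⟩
    · exact h1 (hcl y h)
    · exact h1 (isUnit_of_not_closed hC h hy' aW₁ (haW₁ ⟨y, hy'⟩))
    · exact h1 (isUnit_of_not_closed hC h hy' bW₁ (hbW₁ ⟨y, hy'⟩))
  let W₂ : C.Opens := W₁ ⊓ ⟨Fᶜ, hFc.isOpen_compl⟩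
  have hle : W₂ ≤ W₁ := inf_le_left
  let a₂ : Γ(C, W₂) := C.presheaf.map (homOfLE hle).op aW₁
  let b₂ : Γ(C, W₂) := C.presheaf.map (homOfLE hle).op bW₁
  have ha₂ : a₂ ∈ Mero.regSub C W₂ := Mero.regSub_res _ haW₁
  have hb₂ : b₂ ∈ Mero.regSub C W₂ := Mero.regSub_res _ hbW₁
  let ua : (Γ(Mero.kmod C, W₂))ˣ :=
    { val := ⟨fun z => LocalizedModule.mk (C.presheaf.germ W₂ z.1 z.2 a₂) (Mero.regGerm z ⟨b₂, hb₂⟩),
        fun z => ⟨W₂, z.2, 𝟙 _, a₂, ⟨b₂, hb₂⟩, fun _ => rfl⟩⟩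
      inv := ⟨fun z => LocalizedModule.mk (C.presheaf.germ W₂ z.1 z.2 b₂) (Mero.regGerm z ⟨a₂, ha₂⟩),
        fun z => ⟨W₂, z.2, 𝟙 _, b₂, ⟨a₂, ha₂⟩, fun _ => rfl⟩⟩
      val_inv := kmod_ext fun z => LocalizedModule.mk_mul_mk.trans ((Mero.mk_congr (mul_comm _ _) rfl).trans
        (Mero.mk_self_eq_one (Mero.regGerm z ⟨b₂, hb₂⟩ * Mero.regGerm z ⟨a₂, ha₂⟩)))
      inv_val := kmod_ext fun z => LocalizedModule.mk_mul_mk.trans ((Mero.mk_congr (mul_comm _ _) rfl).trans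
        (Mero.mk_self_eq_one (Mero.regGerm z ⟨a₂, ha₂⟩ * Mero.regGerm z ⟨b₂, hb₂⟩))) }
  have hua : ∀ z : W₂, (Units.map (Mero.evalK C W₂ z).toMonoidHom ua : Mero.KStalk C z.1) *
      algebraMap _ _ (C.presheaf.germ W₂ z.1 z.2 b₂) = algebraMap _ _ (C.presheaf.germ W₂ z.1 z.2 a₂) := fun z =>
    WA.mk_eq_div (C.presheaf.germ W₂ z.1 z.2 a₂) (Mero.regGerm z ⟨b₂, hb₂⟩)
  refine ⟨W₂, ⟨hxW₁, fun h => h.2 rfl⟩, ua, fun z => ?_⟩
  by_cases hzx : z.1 = x
  · obtain ⟨z, hz⟩ := z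
    obtain rfl : z = x := hzx
    rw [← hq]
    refine congrArg _ (Units.ext ?_)
    have h1 := hua ⟨z, hz⟩
    simp only [a₂, b₂, aW₁, bW₁, aW, TopCat.Presheaf.germ_res_apply] at h1
    rw [ha₀, hb₀] at h1
    exact ((IsLocalization.map_units _ b₀).mul_right_cancel (hab.trans h1.symm))
  · have hn : z.1 ∉ F := z.2.2
    simp only [F, Set.mem_diff, Set.mem_singleton_iff, hzx, not_false_iff, and_true, Set.mem_union, Set.mem_setOf_eq,
      not_or, not_exists, not_not] at hn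
    rw [hn.1.1]
    refine (germ_quot_eq_one _ ?_ ?_ (hua z)).symm
    · rw [TopCat.Presheaf.germ_res_apply]
      exact hn.1.2 (hle z.2)
    · rw [TopCat.Presheaf.germ_res_apply]
      exact hn.2 (hle z.2)

end Groth.Agent.MeroLib
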