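import Groth.Agent.Lib.MeroLib.Extend
import Groth.Agent.Lib.CubeField.Fin

/-!
# Existence of divisors of invertible modules
-/

set_option autoImplicit false
set_option backward.isDefEq.respectTransparency false

universe u

noncomputable section

open CategoryTheory AlgebraicGeometry TopologicalSpace Opposite

namespace Groth.Agent.MeroLib

variable {X : Scheme.{u}} {L : X.Modules}

theorem IsGenerator_mres {U W : X.Opens} (h : W ≤ U) (e : Γ(L, U)) (he : M2.IsGenerator e) :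
    M2.IsGenerator (M1.mres L h e) := fun V hV => by
  have : (fun r : Γ(X, V) => r • M2.res L hV (M1.mres L h e)) = fun r => r • M2.res L (hV.trans h) e := by
    funext r
    change r • M1.mres L hV (M1.mres L h e) = r • M1.mres L (hV.trans h) e
    rw [M1.mres_mres]
  rw [this]
  exact he V (hV.trans h)

theorem exists_affine_gen (hL : PicF.IsInvertible L) {x : X} {W : X.Opens} (hx : x ∈ W) :
    ∃ (U : X.Opens) (_ : x ∈ U) (_ : U ≤ W) (_ : IsAffineOpen U) (e : Γ(L, U)), M2.IsGenerator e := by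
  obtain ⟨U₀, hxU₀, ⟨i⟩⟩ := hL x
  obtain ⟨e, he⟩ := M2.exists_generator i
  obtain ⟨U, hU, hxU, hUle'⟩ := exists_isAffineOpen_mem_and_subset (U := W ⊓ U₀) (x := x) ⟨hx, hxU₀⟩
  have hUle : U ≤ W ⊓ U₀ := hUle'
  exact ⟨U, hxU, hUle.trans inf_le_left, hU, M1.mres L (hUle.trans inf_le_right) e, IsGenerator_mres _ e he⟩

theorem exists_divisor_of_regSec (S : RegSec L) : ∃ D : Mero.Divisor X, Nonempty (L ≅ Mero.divMod D) := by
  haveI := S.isIso_hom
  exact ⟨S.divisor, ⟨asIso S.hom⟩⟩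

/-- A regular meromorphic section has local equations. -/
theorem regSec_of_regularMero (hL : PicF.IsInvertible L) (σ : Γ(Mero.merMod L, ⊤)) (hσ : Mero.IsRegularMero L σ) :
    Nonempty (RegSec L) := by
  refine ⟨⟨fun x => σ.1 ⟨x, Opens.mem_top x⟩, fun x => ?_⟩⟩
  obtain ⟨W, hxW, i, m, b, hmb⟩ := σ.2 ⟨x, Opens.mem_top x⟩
  obtain ⟨U, hxU, hUW, hU, e, he⟩ := exists_affine_gen hL hxW
  obtain ⟨a, ha⟩ := (he U le_rfl).2 (M1.mres L hUW m)
  have hσy : ∀ y : U, σ.1 ⟨y.1, Opens.mem_top y.1⟩ =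
      LocalizedModule.mk (X.presheaf.germ U y.1 y.2 a • L.presheaf.germ U y.1 y.2 e)
        (Mero.regGerm ⟨y.1, hUW y.2⟩ b) := fun y => by
    refine (hmb ⟨y.1, hUW y.2⟩).trans ?_
    congr 1
    have h1 := congrArg (L.presheaf.germ U y.1 y.2) ha
    change L.presheaf.germ U y.1 y.2 (a • M1.mres L le_rfl e) = _ at h1
    rw [M1.mres_id, M1.germ_smul, M1.germ_mres L hUW y.2] at h1
    exact h1.symm
  have hmk : ∀ y : U, σ.1 ⟨y.1, Opens.mem_top y.1⟩ =
      (LocalizedModule.mk (X.presheaf.germ U y.1 y.2 a) (Mero.regGerm ⟨y.1, hUW y.2⟩ b) : Mero.KStalk X y.1) •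
        inK (L.presheaf.germ U y.1 y.2 e) := fun y => by
    rw [hσy y, inK, LocalizedModule.mkLinearMap_apply]
    exact (Mero.mk_congr rfl (by rw [mul_one])).trans (LocalizedModule.mk_smul_mk _ _ _ _).symm
  have hareg : a ∈ Mero.regSub X U := fun y => mem_nonZeroDivisors_iff_right.2 fun z hz => by
    refine Mero.algebraMap_KStalk_injective y.1 ?_
    rw [map_zero]
    refine hσ y.1 _ ?_
    rw [hmk y, ← mul_smul]
    have : algebraMap (X.presheaf.stalk y.1) (Mero.KStalk X y.1) z *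
        (LocalizedModule.mk (X.presheaf.germ U y.1 y.2 a) (Mero.regGerm ⟨y.1, hUW y.2⟩ b) : Mero.KStalk X y.1) = 0 := by
      change (LocalizedModule.mk z 1 : Mero.KStalk X y.1) * LocalizedModule.mk _ _ = 0
      refine LocalizedModule.mk_mul_mk.trans ?_
      rw [hz, LocalizedModule.zero_mk]
    rw [this, zero_smul]
  let b' : Γ(X, U) := X.presheaf.map (homOfLE hUW).op b.1
  have hb' : b' ∈ Mero.regSub X U := Mero.regSub_res (homOfLE hUW) b.2
  refine ⟨U, hxU, e, regU a hareg * (regU b' hb')⁻¹, he, fun y => ?_⟩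
  rw [hmk y]
  congr 1
  rw [unitAt, map_mul, map_inv, Units.val_mul, Units.eq_mul_inv_iff_mul_eq]
  exact (congrArg (LocalizedModule.mk (X.presheaf.germ U y.1 y.2 a) (Mero.regGerm ⟨y.1, hUW y.2⟩ b) * ·)
    (congrArg (algebraMap _ (Mero.KStalk X y.1)) (TopCat.Presheaf.germ_res_apply X.presheaf (homOfLE hUW) y.1 y.2 b.1))).trans
    (WA.mk_eq_div (X.presheaf.germ U y.1 y.2 a) (Mero.regGerm ⟨y.1, hUW y.2⟩ b))

/-- The module of a divisor has a regular meromorphic section. -/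
theorem hasRegularMero_of_iso (D : Mero.Divisor X) (φ : L ≅ Mero.divMod D) : Mero.HasRegularMero L := by
  have hch : ∀ x : X, ∃ (U : X.Opens) (_ : x ∈ U) (g : (Γ(Mero.kmod X, U))ˣ), ∀ y : U, D.1 y.1 = Mero.germOf g y :=
    D.2
  choose U hxU g hg using hch
  let e : ∀ x, Γ(L, U x) := fun x => φ.inv.app (U x) (genSec D (g x) (hg x))
  have he : ∀ x, M2.IsGenerator (e x) := fun x V hV => by
    have hb : Function.Bijective (φ.inv.app V) := (ConcreteCategory.isIso_iff_bijective _).1 inferInstance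
    refine (congrArg Function.Bijective (funext fun r => ?_)).mp (hb.comp (genSec_bijective D (g x) (hg x) V hV))
    change φ.inv.app V (r • M1.mres (Mero.divMod D) hV (genSec D (g x) (hg x))) = r • M1.mres L hV (e x)
    rw [Scheme.Modules.Hom.app_smul, M1.app_mres]
  let σ : ∀ x : X, Mero.MStalk L x := fun x =>
    (unitAt (g x) ⟨x, hxU x⟩ : Mero.KStalk X x) • inK (L.presheaf.germ (U x) x (hxU x) (e x))
  have hind : ∀ (x y : X) (hy : y ∈ U x), σ y =
      (unitAt (g x) ⟨y, hy⟩ : Mero.KStalk X y) • inK (L.presheaf.germ (U x) y hy (e x)) := by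
    intro x y hy
    let W := U x ⊓ U y
    have hyW : y ∈ W := ⟨hy, hxU y⟩
    obtain ⟨r, hr⟩ := (genSec_bijective D (g x) (hg x) W inf_le_left).2
      (M1.mres (Mero.divMod D) (inf_le_right : W ≤ U y) (genSec D (g y) (hg y)))
    change r • M1.mres (Mero.divMod D) (inf_le_left : W ≤ U x) (genSec D (g x) (hg x)) = _ at hr
    have h1 : L.presheaf.germ (U y) y (hxU y) (e y) =
        X.presheaf.germ W y hyW r • L.presheaf.germ (U x) y hy (e x) := by
      rw [← M1.germ_mres L (inf_le_right : W ≤ U y) hyW (e y), ← M1.germ_mres L (inf_le_left : W ≤ U x) hyW (e x),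
        ← M1.germ_smul, ← M1.app_mres, ← M1.app_mres, ← Scheme.Modules.Hom.app_smul, hr]
    have h2 := congrFun (congrArg Subtype.val hr) ⟨y, hyW⟩
    change X.presheaf.germ W y hyW r • ((unitAt (g x)⁻¹ ⟨y, hy⟩ : (Mero.KStalk X y)ˣ) : Mero.KStalk X y) =
      (unitAt (g y)⁻¹ ⟨y, hxU y⟩ : (Mero.KStalk X y)ˣ) at h2
    rw [Algebra.smul_def, unitAt, unitAt, map_inv, map_inv] at h2
    change (unitAt (g y) ⟨y, hxU y⟩ : Mero.KStalk X y) • _ = _
    rw [h1, inK_smul, ← mul_smul]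
    congr 1
    calc (unitAt (g y) ⟨y, hxU y⟩ : Mero.KStalk X y) * algebraMap _ (Mero.KStalk X y) (X.presheaf.germ W y hyW r)
        = (unitAt (g y) ⟨y, hxU y⟩ : Mero.KStalk X y) * (algebraMap _ (Mero.KStalk X y) (X.presheaf.germ W y hyW r) *
            ((unitAt (g x) ⟨y, hy⟩)⁻¹ : (Mero.KStalk X y)ˣ)) * unitAt (g x) ⟨y, hy⟩ := by
          rw [← mul_assoc, Units.inv_mul_cancel_right]
      _ = _ := by rw [h2, Units.mul_inv, one_mul]
  refine ⟨⟨fun x => σ x.1, fun x => ?_⟩, fun x q hq => ?_⟩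
  · obtain ⟨V, hxV, i, a, b, hab⟩ := (g x.1 : Γ(Mero.kmod X, U x.1)).2 ⟨x.1, hxU x.1⟩
    refine ⟨V, hxV, homOfLE le_top, a • M1.mres L i.le (e x.1), b, fun y => ?_⟩
    refine (hind x.1 y.1 (i.le y.2)).trans ?_
    rw [show (unitAt (g x.1) ⟨y.1, i.le y.2⟩ : Mero.KStalk X y.1) =
      LocalizedModule.mk (X.presheaf.germ V y.1 y.2 a) (Mero.regGerm y b) from hab y,
      inK, LocalizedModule.mkLinearMap_apply]
    refine (LocalizedModule.mk_smul_mk _ _ _ _).trans (Mero.mk_congr ?_ (by rw [mul_one]))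
    rw [M1.germ_smul, M1.germ_mres L i.le y.2]
  · change q • σ x = 0 at hq
    rw [← mul_smul] at hq
    exact (Units.isUnit _).mul_left_eq_zero.1 (smul_inK_cancel (e x) (he x) (hxU x) _ hq)

/-- Prime avoidance for generators of an invertible module. -/
theorem exists_generating_section (hL : PicF.IsInvertible L) {W : X.Opens} (hW : IsAffineOpen W) (s : Finset X)
    (hs : ∀ y ∈ s, y ∈ W) :
    ∃ t : Γ(L, W), ∀ y (hy : y ∈ W), y ∈ s →
      Submodule.span (X.presheaf.stalk y) {L.presheaf.germ W y hy t} = ⊤ := by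
  classical
  haveI : Coh.IsQCoh L := (CubeField.isCoh_of_isInvertible hL).1
  induction s using Finset.strongInduction with
  | _ s ih =>
    rcases s.eq_empty_or_nonempty with rfl | hne
    · exact ⟨0, fun y _ h => absurd h (Finset.notMem_empty _)⟩
    let pr : X → Ideal Γ(X, W) := fun y => if h : y ∈ W then (hW.primeIdealOf ⟨y, h⟩).asIdeal else ⊥
    obtain ⟨y₀, hy₀, hmin⟩ := Finset.exists_minimalFor pr s hne
    have hy₀W := hs y₀ hy₀
    obtain ⟨t, ht⟩ := ih (s.erase y₀) (Finset.erase_ssubset hy₀) fun y hy => hs y (Finset.mem_of_mem_erase hy)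
    obtain ⟨U, hyU, hUW, hU, e, he⟩ := exists_affine_gen hL hy₀W
    by_cases hgen : Submodule.span (X.presheaf.stalk y₀) {L.presheaf.germ W y₀ hy₀W t} = ⊤
    · refine ⟨t, fun y hy hys => ?_⟩
      rcases eq_or_ne y y₀ with rfl | hne'
      · exact hgen
      · exact ht y hy (Finset.mem_erase.2 ⟨hne', hys⟩)
    obtain ⟨r, u, hr, hu⟩ := M1.exists_germ_smul_eq L hW hy₀W (L.presheaf.germ U y₀ hyU e)
    have hc : ∃ c : Γ(X, W), IsUnit (X.presheaf.germ W y₀ hy₀W c) ∧
        ∀ y (hy : y ∈ W), y ∈ s.erase y₀ → ¬ IsUnit (X.presheaf.germ W y hy c) := by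
      have hd : ∀ y ∈ s.erase y₀, ∃ c, c ∈ pr y ∧ c ∉ pr y₀ := by
        intro y hy
        by_contra hall
        push Not at hall
        have hle : pr y ≤ pr y₀ := hall
        have heq := le_antisymm hle (hmin (Finset.mem_of_mem_erase hy) hle)
        simp only [pr, dif_pos (hs y (Finset.mem_of_mem_erase hy)), dif_pos hy₀W] at heq
        have h3 := congrArg hW.fromSpec (PrimeSpectrum.ext heq)
        rw [hW.fromSpec_primeIdealOf, hW.fromSpec_primeIdealOf] at h3
        exact (Finset.mem_erase.1 hy).1 h3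
      choose! c hc hc₀ using hd
      refine ⟨∏ y ∈ s.erase y₀, c y, ?_, fun y hy hys hu' => ?_⟩
      · rw [map_prod]
        refine Submonoid.prod_mem (IsUnit.submonoid _) fun y hy => ?_
        refine (M1.isUnit_germ_iff hW hy₀W _).mpr ?_
        have := hc₀ y hy
        simp only [pr, dif_pos hy₀W] at this
        exact this
      · have h1 := (M1.isUnit_germ_iff hW hy _).mp hu'
        have h2 := hc y hys
        simp only [pr, dif_pos hy] at h2
        obtain ⟨q, hq⟩ := Finset.dvd_prod_of_mem c hys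
        exact h1 (by rw [hq]; exact Ideal.mul_mem_right _ _ h2)
    obtain ⟨c, hc0, hcy⟩ := hc
    refine ⟨t + c • u, fun y hy hys => ?_⟩
    obtain ⟨U', hyU', hU'W, hU', e', he'⟩ := exists_affine_gen hL hy
    have hunit : ∀ d : X.presheaf.stalk y, Submodule.span (X.presheaf.stalk y)
        {d • L.presheaf.germ U' y hyU' e'} = ⊤ ↔ IsUnit d := fun d => by
      constructor
      · intro h
        obtain ⟨k, hk⟩ := Submodule.mem_span_singleton.1 (h.symm ▸ Submodule.mem_top :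
          L.presheaf.germ U' y hyU' e' ∈ Submodule.span (X.presheaf.stalk y) {d • L.presheaf.germ U' y hyU' e'})
        rw [← mul_smul] at hk
        have h1 : (k * d - 1) • L.presheaf.germ U' y hyU' e' = 0 := by rw [sub_smul, hk, one_smul, sub_self]
        exact IsUnit.of_mul_eq_one k (by rw [mul_comm]; exact sub_eq_zero.1 (smul_germ_cancel e' he' hyU' _ h1))
      · intro hd
        rw [eq_top_iff]
        intro z _
        obtain ⟨k, rfl⟩ := exists_smul_germ e' he' hyU' z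
        obtain ⟨d', hd'⟩ := hd.exists_left_inv
        exact Submodule.mem_span_singleton.2 ⟨k * d', by rw [← mul_smul, mul_assoc, hd', mul_one]⟩
    obtain ⟨dt, hdt⟩ := exists_smul_germ e' he' hyU' (L.presheaf.germ W y hy t)
    obtain ⟨du, hdu⟩ := exists_smul_germ e' he' hyU' (L.presheaf.germ W y hy u)
    rw [map_add, M1.germ_smul, hdu, hdt, ← mul_smul, ← add_smul, hunit]
    rcases eq_or_ne y y₀ with rfl | hne'
    · have h1 : ¬ IsUnit dt := fun h => hgen (by rw [hdt]; exact (hunit _).2 h)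
      have h2 : IsUnit du := by
        rw [← hunit, ← hdu, ← hu]
        obtain ⟨w, hw⟩ := hr
        rw [← hw, eq_top_iff]
        intro z _
        obtain ⟨k, rfl⟩ := exists_smul_germ e he hyU z
        exact Submodule.mem_span_singleton.2 ⟨k * w⁻¹, by rw [← mul_smul, mul_assoc, Units.inv_mul, mul_one]⟩
      by_contra h3
      have h4 := Ideal.sub_mem _ ((IsLocalRing.mem_maximalIdeal _).2 h3) ((IsLocalRing.mem_maximalIdeal _).2 h1)
      rw [add_sub_cancel_left] at h4
      exact (IsLocalRing.mem_maximalIdeal _).1 h4 (hc0.mul h2)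
    · have hye := Finset.mem_erase.2 ⟨hne', hys⟩
      have h1 : IsUnit dt := (hunit _).1 (by rw [← hdt]; exact ht y hy hye)
      by_contra h3
      have h4 := Ideal.sub_mem _ ((IsLocalRing.mem_maximalIdeal _).2 h3)
        (Ideal.mul_mem_right du _ ((IsLocalRing.mem_maximalIdeal _).2 (hcy y hy hye)))
      rw [add_sub_cancel_right] at h4
      exact (IsLocalRing.mem_maximalIdeal _).1 h4 h1

theorem exists_regSec_of_affine (hfin : FinWA X) (hL : PicF.IsInvertible L) {W : X.Opens} (hW : IsAffineOpen W)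
    (hWA : ∀ y, Curv2.IsWeakAssPoint (Coh.structureModule X) y → y ∈ W) : Nonempty (RegSec L) := by
  classical
  obtain ⟨t, ht⟩ := exists_generating_section hL hW (hfin W hW).toFinset
    fun y hy => ((Set.Finite.mem_toFinset _).1 hy).1
  refine exists_regSec hfin (fun y => if hy : y ∈ W then L.presheaf.germ W y hy t else 0) fun x => ?_
  obtain ⟨U, hxU, -, hU, e, he⟩ := exists_affine_gen hL (W := ⊤) (Opens.mem_top x)
  obtain ⟨a, ha⟩ := smul_eq_of_isUnit (M1.mres L (inf_le_right : U ⊓ W ≤ W) t) (M1.mres L inf_le_left e)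
    (IsGenerator_mres _ e he)
  refine ⟨U, hxU, hU, e, U ⊓ W, inf_le_left, a, he, fun y hy hwa => ⟨hy, hWA y hwa⟩, fun y hwa => ?_⟩
  have h1 := ha y.1 y.2
  rw [M1.germ_mres L (inf_le_right : U ⊓ W ≤ W) y.2, M1.germ_mres L (inf_le_left : U ⊓ W ≤ U) y.2] at h1
  refine ⟨?_, ?_⟩
  · have h2 := ht y.1 y.2.2 ((Set.Finite.mem_toFinset _).2 ⟨y.2.2, hwa⟩)
    rw [h1] at h2
    obtain ⟨k, hk⟩ := Submodule.mem_span_singleton.1 (h2.symm ▸ Submodule.mem_top :
      L.presheaf.germ U y.1 y.2.1 e ∈ Submodule.span (X.presheaf.stalk y.1)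
        {X.presheaf.germ (U ⊓ W) y.1 y.2 a • L.presheaf.germ U y.1 y.2.1 e})
    rw [← mul_smul] at hk
    have h3 : (k * X.presheaf.germ (U ⊓ W) y.1 y.2 a - 1) • L.presheaf.germ U y.1 y.2.1 e = 0 := by
      rw [sub_smul, hk, one_smul, sub_self]
    exact IsUnit.of_mul_eq_one k (by rw [mul_comm]; exact sub_eq_zero.1 (smul_germ_cancel e he y.2.1 _ h3))
  · rw [dif_pos (show y.1 ∈ W from y.2.2)]
    exact h1

theorem exists_regSec_of_noEmbedded (hfin : FinWA X)
    (hne : ∀ y z : X, Curv2.IsWeakAssPoint (Coh.structureModule X) y →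
      Curv2.IsWeakAssPoint (Coh.structureModule X) z → z ⤳ y → z = y) (hL : PicF.IsInvertible L) :
    Nonempty (RegSec L) := by
  classical
  choose U₀ hU₀ _ _ e₀ he₀ using fun y : X => exists_affine_gen hL (W := ⊤) (Opens.mem_top y)
  refine exists_regSec hfin (fun y => L.presheaf.germ (U₀ y) y (hU₀ y) (e₀ y)) fun x => ?_
  obtain ⟨U, hxU, -, hU, e, he⟩ := exists_affine_gen hL (W := ⊤) (Opens.mem_top x)
  let P := {y : X | y ∈ U ∧ Curv2.IsWeakAssPoint (Coh.structureModule X) y}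
  have hP : P.Finite := hfin U hU
  haveI := hP.to_subtype
  let V : P → X.Opens := fun y => U ⊓ U₀ y.1 ⊓
    ⟨(⋃ z ∈ P \ {y.1}, closure ({z} : Set X))ᶜ, ((hP.subset Set.diff_subset).isClosed_biUnion
      fun _ _ => isClosed_closure).isOpen_compl⟩
  have hVU : ∀ y, V y ≤ U := fun y => inf_le_left.trans inf_le_left
  have hVU₀ : ∀ y, V y ≤ U₀ y.1 := fun y => inf_le_left.trans inf_le_right
  have hmem : ∀ y : P, y.1 ∈ V y := fun y => by
    refine ⟨⟨y.2.1, hU₀ y.1⟩, fun h => ?_⟩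
    obtain ⟨z, hz, hzy⟩ := Set.mem_iUnion₂.mp h
    exact hz.2 (hne y.1 z y.2.2 hz.1.2 (specializes_iff_mem_closure.mpr hzy))
  have hdisj : ∀ (y y' : P) (z : X), z ∈ V y → z ∈ V y' → y = y' := by
    intro y y' z hz hz'
    by_contra hne
    haveI := M1.isQCoh_structureModule X
    have h0 : (Coh.structureModule X).presheaf.germ U z (hVU y hz)
        (show Γ(Coh.structureModule X, U) from (1 : Γ(X, U))) ≠ 0 := fun h => by
      rw [WA.germ_O_eq_zero_iff, map_one] at h
      exact one_ne_zero h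
    obtain ⟨η, hη, hηz, hwa, -⟩ := WA.exists_weakAss hU (hVU y hz) _ h0
    have hηP : η ∈ P := ⟨hη, hwa⟩
    have h1 : η = y.1 := by
      by_contra h
      exact hz.2 (Set.mem_iUnion₂.mpr ⟨η, ⟨hηP, h⟩, specializes_iff_mem_closure.mp hηz⟩)
    have h2 : η = y'.1 := by
      by_contra h
      exact hz'.2 (Set.mem_iUnion₂.mpr ⟨η, ⟨hηP, h⟩, specializes_iff_mem_closure.mp hηz⟩)
    exact hne (Subtype.ext (h1.symm.trans h2))
  choose a ha using fun y : P => smul_eq_of_isUnit (M1.mres L (hVU₀ y) (e₀ y.1)) (M1.mres L (hVU y) e)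
    (IsGenerator_mres _ e he)
  have hcomp : TopCat.Presheaf.IsCompatible X.sheaf.obj V a := fun y y' => by
    refine TopCat.Presheaf.section_ext X.sheaf _ _ _ fun z hz => ?_
    obtain rfl := hdisj y y' z hz.1 hz.2
    rfl
  obtain ⟨s, hs, -⟩ := X.sheaf.existsUnique_gluing' V (⨆ y, V y) (fun y => homOfLE (le_iSup V y)) le_rfl a hcomp
  refine ⟨U, hxU, hU, e, ⨆ y, V y, iSup_le hVU, s, he,
    fun y hy hwa => Opens.mem_iSup.mpr ⟨⟨y, hy, hwa⟩, hmem ⟨y, hy, hwa⟩⟩, fun y hwa => ?_⟩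
  have hyP : y.1 ∈ P := ⟨iSup_le hVU y.2, hwa⟩
  have hg : X.presheaf.germ (⨆ y, V y) y.1 y.2 s = X.presheaf.germ (V ⟨y.1, hyP⟩) y.1 (hmem ⟨y.1, hyP⟩) (a ⟨y.1, hyP⟩) := by
    rw [← hs ⟨y.1, hyP⟩]
    exact (TopCat.Presheaf.germ_res_apply X.presheaf (homOfLE (le_iSup V ⟨y.1, hyP⟩)) y.1 (hmem ⟨y.1, hyP⟩) s).symm
  have h1 := ha ⟨y.1, hyP⟩ y.1 (hmem ⟨y.1, hyP⟩)
  rw [M1.germ_mres L (hVU₀ ⟨y.1, hyP⟩) (hmem ⟨y.1, hyP⟩), M1.germ_mres L (hVU ⟨y.1, hyP⟩) (hmem ⟨y.1, hyP⟩)] at h1
  rw [hg]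
  refine ⟨?_, h1⟩
  obtain ⟨k, hk⟩ := exists_smul_germ (e₀ y.1) (he₀ y.1) (hU₀ y.1) (L.presheaf.germ U y.1 hyP.1 e)
  rw [h1, ← mul_smul] at hk
  have h3 : (k * X.presheaf.germ (V ⟨y.1, hyP⟩) y.1 (hmem ⟨y.1, hyP⟩) (a ⟨y.1, hyP⟩) - 1) •
      L.presheaf.germ U y.1 hyP.1 e = 0 := by
    rw [sub_smul, ← hk, one_smul, sub_self]
  exact IsUnit.of_mul_eq_one k (by rw [mul_comm]; exact sub_eq_zero.1 (smul_germ_cancel e he hyP.1 _ h3))

theorem exists_regSec_of_reduced [IsReduced X] (hfin : FinWA X) (hL : PicF.IsInvertible L) :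
    Nonempty (RegSec L) :=
  exists_regSec_of_noEmbedded hfin (fun _ _ hy _ hzy => WA.eq_of_specializes_weakAss hy hzy) hL

theorem hasRegularMero_of_regSec (S : RegSec L) : Mero.HasRegularMero L := by
  obtain ⟨D, ⟨φ⟩⟩ := exists_divisor_of_regSec S
  exact hasRegularMero_of_iso D φ

/-- Finitely many components of the quasi-compact opens. -/
theorem finWA_of_reduced' [IsReduced X]
    (hfin : ∀ U : X.Opens, IsCompact (U : Set X) → (irreducibleComponents (U : Scheme.{u})).Finite) : FinWA X := by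
  intro U hU
  have h2 := hfin U hU.isCompact
  have key : ∀ y : (U : Scheme.{u}), Curv2.IsWeakAssPoint (Coh.structureModule X) y.1 →
      closure ({y} : Set (U : Scheme.{u})) ∈ irreducibleComponents (U : Scheme.{u}) := fun y hwa =>
    isIrreducibleComponent_of_maximal fun z hz => Subtype.ext
      (WA.eq_of_specializes_weakAss hwa ((subtype_specializes_iff z y).1 hz))
  refine Set.Finite.subset (s := (Subtype.val : ((U : Scheme.{u}) : Type u) → X) ''
    {y : ((U : Scheme.{u}) : Type u) | Curv2.IsWeakAssPoint (Coh.structureModule X) y.1}) (Set.Finite.image _ ?_) ?_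
  · refine Set.Finite.of_finite_image (f := fun y : (U : Scheme.{u}) => closure ({y} : Set (U : Scheme.{u}))) ?_ ?_
    · refine h2.subset ?_
      rintro _ ⟨y, hy, rfl⟩
      exact key y hy
    · intro y _ y' _ e
      exact (inseparable_iff_closure_eq.2 e).eq
  · rintro y ⟨hy, hwa⟩
    exact ⟨⟨y, hy⟩, hwa, rfl⟩

theorem weakAss_of_assoc {y : X}
    (h : IsAssociatedPrime (IsLocalRing.maximalIdeal (X.presheaf.stalk y)) (X.presheaf.stalk y))
    {U : X.Opens} (hy : y ∈ U) (hU : IsAffineOpen U) : Curv2.IsWeakAssPoint (Coh.structureModule X) y := by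
  let := TopCat.Presheaf.algebra_section_stalk X.presheaf (⟨y, hy⟩ : U)
  have := hU.isLocalization_stalk ⟨y, hy⟩
  obtain ⟨hp, m, hm⟩ := h
  obtain ⟨⟨a, c⟩, hac⟩ := IsLocalization.surj (hU.primeIdealOf ⟨y, hy⟩).asIdeal.primeCompl m
  have hac : m * X.presheaf.germ U y hy c = X.presheaf.germ U y hy a := hac
  have hcu : IsUnit (X.presheaf.germ U y hy c) := (M1.isUnit_germ_iff hU hy c).mpr c.2
  haveI := M1.isQCoh_structureModule X
  refine ⟨(Coh.structureModule X).presheaf.germ U y hy (show Γ(Coh.structureModule X, U) from a), Eq.trans ?_ hm.symm⟩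
  congr 1
  ext z
  obtain ⟨⟨a', c'⟩, hz⟩ := IsLocalization.surj (hU.primeIdealOf ⟨y, hy⟩).asIdeal.primeCompl z
  have hz : z * X.presheaf.germ U y hy c' = X.presheaf.germ U y hy a' := hz
  have hcu' : IsUnit (X.presheaf.germ U y hy c') := (M1.isUnit_germ_iff hU hy c').mpr c'.2
  rw [LinearMap.mem_ker, LinearMap.toSpanSingleton_apply, Submodule.mem_colon_singleton, Submodule.mem_bot, smul_eq_mul]
  have e1 : z • (Coh.structureModule X).presheaf.germ U y hy (show Γ(Coh.structureModule X, U) from a) = 0 ↔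
      (Coh.structureModule X).presheaf.germ U y hy (show Γ(Coh.structureModule X, U) from a' * a) = 0 := by
    change _ ↔ (Coh.structureModule X).presheaf.germ U y hy (a' • (show Γ(Coh.structureModule X, U) from a)) = 0
    obtain ⟨u₂, hu₂⟩ := hcu'
    rw [M1.germ_smul, ← hz, ← hu₂, mul_comm, mul_smul, ← Units.smul_def, smul_eq_zero_iff_eq]
  rw [e1, WA.germ_O_eq_zero_iff, map_mul, ← hz, ← hac]
  exact ⟨fun h => by
      rw [show z * X.presheaf.germ U y hy c' * (m * X.presheaf.germ U y hy c) =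
        z * m * (X.presheaf.germ U y hy c' * X.presheaf.germ U y hy c) by ring] at h
      exact (hcu'.mul hcu).mul_left_eq_zero.1 h,
    fun h => by
      rw [show z * X.presheaf.germ U y hy c' * (m * X.presheaf.germ U y hy c) =
        z * m * (X.presheaf.germ U y hy c' * X.presheaf.germ U y hy c) by ring, h, zero_mul]⟩

end Groth.Agent.MeroLib
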