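import Groth.Agent.Lib.MeroLib.DivMod
import Groth.Agent.Lib.TensorMod.Dual
import Groth.Agent.Lib.ModM1.Exact

/-!
# The divisor of a regular meromorphic section of an invertible module
-/

set_option autoImplicit false
set_option backward.isDefEq.respectTransparency false

universe u

noncomputable section

open CategoryTheory AlgebraicGeometry TopologicalSpace Opposite

namespace Groth.Agent.MeroLib

variable {X : Scheme.{u}} {L : X.Modules}

/-- A germ of the module, in the module of meromorphic germs. -/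
def inK {x : X} : L.presheaf.stalk x →ₗ[X.presheaf.stalk x] Mero.MStalk L x :=
  LocalizedModule.mkLinearMap (Mero.regStalk X x) _

theorem inK_smul {x : X} (c : X.presheaf.stalk x) (t : L.presheaf.stalk x) :
    inK (c • t) = algebraMap _ (Mero.KStalk X x) c • inK t := by
  rw [algebraMap_smul]
  exact map_smul inK c t

/-- Germs of generators generate. -/
theorem exists_smul_germ {U : X.Opens} (e : Γ(L, U)) (he : M2.IsGenerator e) {x : X} (hx : x ∈ U)
    (m : L.presheaf.stalk x) : ∃ c : X.presheaf.stalk x, m = c • L.presheaf.germ U x hx e := by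
  obtain ⟨V, hxV, s, rfl⟩ := L.presheaf.exists_germ_eq m
  obtain ⟨r, hr⟩ := (he (V ⊓ U) inf_le_right).2 (M1.mres L inf_le_left s)
  refine ⟨X.presheaf.germ (V ⊓ U) x ⟨hxV, hx⟩ r, ?_⟩
  have h := congrArg (L.presheaf.germ (V ⊓ U) x ⟨hxV, hx⟩) hr
  change L.presheaf.germ (V ⊓ U) x ⟨hxV, hx⟩ (r • M1.mres L (inf_le_right : V ⊓ U ≤ U) e) = _ at h
  rw [M1.germ_smul, M1.germ_mres L (inf_le_right : V ⊓ U ≤ U) ⟨hxV, hx⟩,
    M1.germ_mres L (inf_le_left : V ⊓ U ≤ V) ⟨hxV, hx⟩] at h
  exact h.symm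

/-- Germs of generators are free. -/
theorem smul_germ_cancel {U : X.Opens} (e : Γ(L, U)) (he : M2.IsGenerator e) {x : X} (hx : x ∈ U)
    (c : X.presheaf.stalk x) (h : c • L.presheaf.germ U x hx e = 0) : c = 0 := by
  obtain ⟨V, hxV, r, rfl⟩ := X.presheaf.exists_germ_eq c
  have h' : L.presheaf.germ (V ⊓ U) x ⟨hxV, hx⟩
      (M1.ores (inf_le_left : V ⊓ U ≤ V) r • M1.mres L (inf_le_right : V ⊓ U ≤ U) e) =
      L.presheaf.germ (V ⊓ U) x ⟨hxV, hx⟩ 0 := by
    rw [M1.germ_smul, M1.germ_mres L (inf_le_right : V ⊓ U ≤ U) ⟨hxV, hx⟩, TopCat.Presheaf.germ_res_apply, h, map_zero]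
  obtain ⟨W, hxW, i, i', e'⟩ := L.presheaf.germ_eq x _ _ _ _ h'
  rw [map_zero] at e'
  have e'' : M1.mres L i.le (M1.ores (inf_le_left : V ⊓ U ≤ V) r • M1.mres L (inf_le_right : V ⊓ U ≤ U) e) = 0 := e'
  rw [M1.mres_smul, M1.ores_ores, M1.mres_mres] at e''
  have h3 := (he W (i.le.trans inf_le_right)).1 (e''.trans (zero_smul _ _).symm)
  rw [← X.presheaf.germ_res_apply (homOfLE (i.le.trans inf_le_left)) x hxW r]
  exact (congrArg (X.presheaf.germ W x hxW) h3).trans (map_zero _)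

/-- The meromorphic germ of a generator is free. -/
theorem smul_inK_cancel {U : X.Opens} (e : Γ(L, U)) (he : M2.IsGenerator e) {x : X} (hx : x ∈ U)
    (q : Mero.KStalk X x) (h : q • inK (L.presheaf.germ U x hx e) = 0) : q = 0 := by
  induction q using LocalizedModule.induction_on with
  | h a b =>
    have h1 : (LocalizedModule.mk a b : Mero.KStalk X x) * algebraMap _ _ (b : X.presheaf.stalk x) =
        algebraMap (X.presheaf.stalk x) (Mero.KStalk X x) a := WA.mk_eq_div a b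
    have h2 : algebraMap (X.presheaf.stalk x) (Mero.KStalk X x) a • inK (L.presheaf.germ U x hx e) = 0 := by
      rw [← h1, mul_comm, mul_smul, h, smul_zero]
    rw [← inK_smul, inK, LocalizedModule.mkLinearMap_apply, ← LocalizedModule.zero_mk (1 : Mero.regStalk X x), LocalizedModule.mk_eq] at h2
    obtain ⟨c, hc⟩ := h2
    simp only [one_smul, smul_zero, Submonoid.smul_def] at hc
    rw [← mul_smul] at hc
    have h3 := smul_germ_cancel e he hx _ hc
    rw [(mem_nonZeroDivisors_iff.mp (Mero.regStalk_le_nonZeroDivisors x c.2)).1 a h3, LocalizedModule.zero_mk]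

theorem inK_injective {U : X.Opens} (e : Γ(L, U)) (he : M2.IsGenerator e) {x : X} (hx : x ∈ U)
    (t : L.presheaf.stalk x) (h : inK t = 0) : t = 0 := by
  obtain ⟨c, rfl⟩ := exists_smul_germ e he hx t
  rw [inK_smul] at h
  rw [(map_eq_zero_iff _ (Mero.algebraMap_KStalk_injective x)).1 (smul_inK_cancel e he hx _ h), zero_smul]

/-- A regular meromorphic section given through local equations. -/
structure RegSec (L : X.Modules) where
  σ : ∀ x : X, Mero.MStalk L x
  eqn : ∀ x : X, ∃ (U : X.Opens) (_ : x ∈ U) (e : Γ(L, U)) (g : (Γ(Mero.kmod X, U))ˣ), M2.IsGenerator e ∧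
    ∀ y : U, σ y.1 = (unitAt g y : Mero.KStalk X y.1) • inK (L.presheaf.germ U y.1 y.2 e)

namespace RegSec

variable (S : RegSec L)

/-- A chart. -/
structure Chart where
  U : X.Opens
  e : Γ(L, U)
  g : (Γ(Mero.kmod X, U))ˣ
  gen : M2.IsGenerator e
  eq : ∀ y : U, S.σ y.1 = (unitAt g y : Mero.KStalk X y.1) • inK (L.presheaf.germ U y.1 y.2 e)

theorem exists_chart (x : X) : ∃ C : S.Chart, x ∈ C.U := by
  obtain ⟨U, hx, e, g, he, h⟩ := S.eqn x
  exact ⟨⟨U, e, g, he, h⟩, hx⟩

/-- A chosen chart around a point. -/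
def chart (x : X) : S.Chart := (S.exists_chart x).choose

theorem mem_chart (x : X) : x ∈ (S.chart x).U := (S.exists_chart x).choose_spec

theorem eq_of_two_charts (C C' : S.Chart) {x : X} (h : x ∈ C.U) (h' : x ∈ C'.U) :
    (QuotientGroup.mk (unitAt C.g ⟨x, h⟩) : Mero.Germ X x) = QuotientGroup.mk (unitAt C'.g ⟨x, h'⟩) := by
  obtain ⟨c, hc⟩ := exists_smul_germ C.e C.gen h (L.presheaf.germ C'.U x h' C'.e)
  obtain ⟨c', hc'⟩ := exists_smul_germ C'.e C'.gen h' (L.presheaf.germ C.U x h C.e)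
  have h1 : (unitAt C.g ⟨x, h⟩ : Mero.KStalk X x) = unitAt C'.g ⟨x, h'⟩ * algebraMap _ _ c := by
    refine sub_eq_zero.1 (smul_inK_cancel C.e C.gen h _ ?_)
    rw [sub_smul, mul_smul, ← inK_smul, ← hc, ← C.eq ⟨x, h⟩, ← C'.eq ⟨x, h'⟩, sub_self]
  have h2 : (unitAt C'.g ⟨x, h'⟩ : Mero.KStalk X x) = unitAt C.g ⟨x, h⟩ * algebraMap _ _ c' := by
    refine sub_eq_zero.1 (smul_inK_cancel C'.e C'.gen h' _ ?_)
    rw [sub_smul, mul_smul, ← inK_smul, ← hc', ← C'.eq ⟨x, h'⟩, ← C.eq ⟨x, h⟩, sub_self]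
  refine germ_eq_of_range _ _ ⟨c', ?_⟩ ⟨c, ?_⟩
  · rw [h2, ← mul_assoc, Units.inv_mul, one_mul]
  · rw [h1, ← mul_assoc, Units.inv_mul, one_mul]

/-- The divisor. -/
def divisor : Mero.Divisor X :=
  ⟨fun x => Mero.germOf (S.chart x).g ⟨x, S.mem_chart x⟩, fun x => ⟨(S.chart x).U, S.mem_chart x, (S.chart x).g,
    fun y => S.eq_of_two_charts (S.chart y.1) (S.chart x) (S.mem_chart y.1) y.2⟩⟩

theorem divisor_eq (C : S.Chart) (y : C.U) : S.divisor.1 y.1 = Mero.germOf C.g y :=
  S.eq_of_two_charts (S.chart y.1) C (S.mem_chart y.1) y.2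

theorem exists_quot (x : X) (t : L.presheaf.stalk x) : ∃ q : Mero.KStalk X x, q • S.σ x = inK t := by
  obtain ⟨c, rfl⟩ := exists_smul_germ (S.chart x).e (S.chart x).gen (S.mem_chart x) t
  refine ⟨algebraMap _ _ c * ((unitAt (S.chart x).g ⟨x, S.mem_chart x⟩)⁻¹ : (Mero.KStalk X x)ˣ), ?_⟩
  rw [(S.chart x).eq ⟨x, S.mem_chart x⟩, ← mul_smul, mul_assoc, Units.inv_mul, mul_one, inK_smul]

/-- The quotient of a germ by the section. -/
def quot (x : X) (t : L.presheaf.stalk x) : Mero.KStalk X x := (S.exists_quot x t).choose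

theorem quot_spec (x : X) (t : L.presheaf.stalk x) : S.quot x t • S.σ x = inK t := (S.exists_quot x t).choose_spec

theorem quot_eq {x : X} {t : L.presheaf.stalk x} {q : Mero.KStalk X x} (h : q • S.σ x = inK t) :
    S.quot x t = q := by
  have h1 : (S.quot x t - q) • S.σ x = 0 := by rw [sub_smul, S.quot_spec, h, sub_self]
  rw [(S.chart x).eq ⟨x, S.mem_chart x⟩, ← mul_smul] at h1
  exact sub_eq_zero.1 ((Units.isUnit _).mul_left_eq_zero.1 (smul_inK_cancel _ (S.chart x).gen _ _ h1))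

theorem quot_add (x : X) (t t' : L.presheaf.stalk x) : S.quot x (t + t') = S.quot x t + S.quot x t' := by
  refine S.quot_eq ?_
  rw [add_smul, quot_spec, quot_spec, map_add]

theorem quot_smul (x : X) (c : X.presheaf.stalk x) (t : L.presheaf.stalk x) :
    S.quot x (c • t) = c • S.quot x t := by
  refine S.quot_eq ?_
  rw [Algebra.smul_def, mul_smul, quot_spec, inK_smul]

theorem quot_zero (x : X) : S.quot x 0 = 0 := S.quot_eq (by rw [zero_smul, map_zero])

theorem quot_gen (C : S.Chart) {y : X} (hy : y ∈ C.U) (c : X.presheaf.stalk y) :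
    S.quot y (c • L.presheaf.germ C.U y hy C.e) =
      algebraMap _ _ c * (((unitAt C.g ⟨y, hy⟩)⁻¹ : (Mero.KStalk X y)ˣ) : Mero.KStalk X y) := by
  refine S.quot_eq ?_
  rw [C.eq ⟨y, hy⟩, ← mul_smul, mul_assoc, Units.inv_mul, mul_one, inK_smul]

/-- The quotient of a section by the regular meromorphic section, as a meromorphic function. -/
theorem quot_mem (U : X.Opens) (t : Γ(L, U)) :
    (Mero.divLoc X S.divisor).pred fun y : U => S.quot y.1 (L.presheaf.germ U y.1 y.2 t) := by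
  refine ⟨fun x => ?_, fun x => ?_⟩
  · let C := S.chart x.1
    have hx : x.1 ∈ U ⊓ C.U := ⟨x.2, S.mem_chart x.1⟩
    obtain ⟨r, hr⟩ := (C.gen (U ⊓ C.U) inf_le_right).2 (M1.mres L inf_le_left t)
    let s : Γ(Mero.kmod X, U ⊓ C.U) := Mero.toK X _ r *
      (Mero.kmod X).presheaf.map (homOfLE inf_le_right).op ((C.g⁻¹ : (Γ(Mero.kmod X, C.U))ˣ) : Γ(Mero.kmod X, C.U))
    obtain ⟨W, hW, i, a, b, hab⟩ := s.2 ⟨x.1, hx⟩
    refine ⟨W, hW, homOfLE (i.le.trans inf_le_left), a, b, fun y => Eq.trans ?_ (hab y)⟩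
    have hy : y.1 ∈ U ⊓ C.U := i.le y.2
    have h1 := congrArg (L.presheaf.germ (U ⊓ C.U) y.1 hy) hr
    change L.presheaf.germ (U ⊓ C.U) y.1 hy (r • M1.mres L (inf_le_right : U ⊓ C.U ≤ C.U) C.e) = _ at h1
    rw [M1.germ_smul, M1.germ_mres L (inf_le_right : U ⊓ C.U ≤ C.U) hy,
      M1.germ_mres L (inf_le_left : U ⊓ C.U ≤ U) hy] at h1
    change S.quot y.1 (L.presheaf.germ U y.1 hy.1 t) = _
    rw [← h1, S.quot_gen C hy.2]
    change _ = (Mero.toK X _ r).1 ⟨y.1, hy⟩ * (unitAt C.g⁻¹ ⟨y.1, hy.2⟩ : Mero.KStalk X y.1)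
    rw [toK_val, unitAt, unitAt, map_inv]
  · obtain ⟨c, hc⟩ := exists_smul_germ (S.chart x.1).e (S.chart x.1).gen (S.mem_chart x.1)
      (L.presheaf.germ U x.1 x.2 t)
    refine (divCond_iff S.divisor x.1 _ _ (S.divisor_eq (S.chart x.1) ⟨x.1, S.mem_chart x.1⟩)).2 ⟨c, ?_⟩
    change algebraMap _ _ c = S.quot x.1 (L.presheaf.germ U x.1 x.2 t) *
      (unitAt (S.chart x.1).g ⟨x.1, S.mem_chart x.1⟩ : Mero.KStalk X x.1)
    rw [hc, S.quot_gen, mul_assoc, Units.inv_mul, mul_one]

/-- Division by the section. -/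
def hom : L ⟶ Mero.divMod S.divisor :=
  ⟨PresheafOfModules.homMk (M₁ := L.val) (M₂ := (Mero.divMod S.divisor).val)
    { app := fun U => AddCommGrpCat.ofHom
        { toFun := fun (t : Γ(L, U.unop)) => (⟨_, S.quot_mem U.unop t⟩ : Γ(Mero.divMod S.divisor, U.unop))
          map_zero' := Subtype.ext (funext fun y => by
            change S.quot y.1 (L.presheaf.germ U.unop y.1 y.2 0) = 0
            rw [map_zero, quot_zero])
          map_add' := fun t t' => Subtype.ext (funext fun y => by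
            change S.quot y.1 (L.presheaf.germ U.unop y.1 y.2 (t + t')) = _
            rw [map_add, quot_add]
            rfl) }
      naturality := fun {U V} i => by
        ext t
        refine Subtype.ext (funext fun y => ?_)
        change S.quot y.1 (L.presheaf.germ V.unop y.1 y.2 (L.presheaf.map i t)) = S.quot y.1 (L.presheaf.germ U.unop y.1 _ t)
        rw [TopCat.Presheaf.germ_res_apply'] }
    (fun U r t => Subtype.ext (funext fun y => by
      change S.quot y.1 (L.presheaf.germ U.unop y.1 y.2 ((show Γ(X, U.unop) from r) • (show Γ(L, U.unop) from t))) = _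
      rw [M1.germ_smul, quot_smul]
      rfl))⟩

theorem hom_val {U : X.Opens} (t : Γ(L, U)) (y : U) :
    (S.hom.app U t).1 y = S.quot y.1 (L.presheaf.germ U y.1 y.2 t) := rfl

theorem hom_bijective (U : X.Opens) : Function.Bijective (S.hom.app U) := by
  constructor
  · refine (injective_iff_map_eq_zero _).2 fun t ht => ?_
    refine M1.section_ext t 0 fun x hx => ?_
    rw [map_zero]
    have h1 : S.quot x (L.presheaf.germ U x hx t) = 0 := congrFun (congrArg Subtype.val ht) ⟨x, hx⟩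
    have h2 := S.quot_spec x (L.presheaf.germ U x hx t)
    rw [h1, zero_smul] at h2
    exact inK_injective _ (S.chart x).gen (S.mem_chart x) _ h2.symm
  · intro T
    have hloc : ∀ x : U, ∃ (V : X.Opens) (_ : x.1 ∈ V) (hV : V ≤ U) (t : Γ(L, V)), ∀ y : V,
        S.quot y.1 (L.presheaf.germ V y.1 y.2 t) = T.1 ⟨y.1, hV y.2⟩ := by
      intro x
      let C := S.chart x.1
      let T' : Γ(Mero.kmod X, U ⊓ C.U) := (Mero.kmod X).presheaf.map (homOfLE inf_le_left).op (toKm T) *
        (Mero.kmod X).presheaf.map (homOfLE inf_le_right).op (C.g : Γ(Mero.kmod X, C.U))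
      obtain ⟨r, hr⟩ := exists_section T' fun y => T.2.2 ⟨y.1, inf_le_left (b := C.U) y.2⟩
        (unitAt C.g ⟨y.1, inf_le_right (a := U) y.2⟩) (S.divisor_eq C ⟨y.1, inf_le_right (a := U) y.2⟩)
      refine ⟨U ⊓ C.U, ⟨x.2, S.mem_chart x.1⟩, inf_le_left, r • M1.mres L inf_le_right C.e, fun y => ?_⟩
      have h1 := congrFun (congrArg Subtype.val hr) y
      rw [toK_val] at h1
      rw [M1.germ_smul, M1.germ_mres L (inf_le_right : U ⊓ C.U ≤ C.U) y.2, S.quot_gen C y.2.2, h1]
      change T.1 ⟨y.1, y.2.1⟩ * (unitAt C.g ⟨y.1, y.2.2⟩ : Mero.KStalk X y.1) * _ = _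
      rw [mul_assoc, Units.mul_inv, mul_one]
    choose V hxV hVU t ht using hloc
    have hcomp : TopCat.Presheaf.IsCompatible L.presheaf V t := fun x x' => by
      refine M1.section_ext _ _ fun z hz => ?_
      change L.presheaf.germ _ z hz (L.presheaf.map _ (t x)) = L.presheaf.germ _ z hz (L.presheaf.map _ (t x'))
      rw [TopCat.Presheaf.germ_res_apply, TopCat.Presheaf.germ_res_apply]
      have h2 := S.quot_spec z (L.presheaf.germ (V x) z hz.1 (t x))
      rw [ht x ⟨z, hz.1⟩] at h2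
      have h3 := S.quot_spec z (L.presheaf.germ (V x') z hz.2 (t x'))
      rw [ht x' ⟨z, hz.2⟩] at h3
      refine sub_eq_zero.1 (inK_injective _ (S.chart z).gen (S.mem_chart z) _ ?_)
      rw [map_sub, ← h2, ← h3, sub_self]
    let F : TopCat.Sheaf AddCommGrpCat X.carrier := ⟨L.presheaf, L.isSheaf⟩
    obtain ⟨s, hs, -⟩ := F.existsUnique_gluing' V U (fun x => homOfLE (hVU x))
      (fun z hz => Opens.mem_iSup.mpr ⟨⟨z, hz⟩, hxV ⟨z, hz⟩⟩) t hcomp
    refine ⟨s, Subtype.ext (funext fun y => ?_)⟩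
    rw [hom_val]
    refine Eq.trans ?_ (ht y ⟨y.1, hxV y⟩)
    congr 1
    rw [← hs y]
    exact (TopCat.Presheaf.germ_res_apply L.presheaf _ _ _ _).symm

/-- The module is the module of the divisor. -/
theorem isIso_hom : IsIso S.hom :=
  Twist.isIso_of_bijective_app _ S.hom_bijective

end RegSec

end Groth.Agent.MeroLib
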