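import Groth.Agent.Lib.MeroLib.FinWA
import Groth.Agent.Lib.MeroLib.OfSection

/-!
# Extending meromorphic functions, and regular meromorphic sections from generic generators
-/

set_option autoImplicit false
set_option backward.isDefEq.respectTransparency false

universe u

noncomputable section

open CategoryTheory AlgebraicGeometry TopologicalSpace Opposite

namespace Groth.Agent.MeroLib

variable {X : Scheme.{u}}

/-- The unit given by a regular section. -/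
def regU {U : X.Opens} (c : Γ(X, U)) (hc : c ∈ Mero.regSub X U) : (Γ(Mero.kmod X, U))ˣ where
  val := Mero.toK X U c
  inv := ⟨fun x => LocalizedModule.mk 1 (Mero.regGerm x ⟨c, hc⟩), fun x => ⟨U, x.2, 𝟙 _, 1, ⟨c, hc⟩, fun y => by
    change LocalizedModule.mk 1 _ = LocalizedModule.mk _ _
    congr 1
    rw [map_one]⟩⟩
  val_inv := Subtype.ext (funext fun x => by
    change (LocalizedModule.mk (X.presheaf.germ U x.1 x.2 c) 1 : Mero.KStalk X x.1) * LocalizedModule.mk 1 _ = 1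
    rw [mul_comm]
    exact (WA.mk_eq_div (1 : X.presheaf.stalk x.1) (Mero.regGerm x ⟨c, hc⟩)).trans (map_one _))
  inv_val := Subtype.ext (funext fun x => by
    change (LocalizedModule.mk 1 _ : Mero.KStalk X x.1) * LocalizedModule.mk (X.presheaf.germ U x.1 x.2 c) 1 = 1
    exact (WA.mk_eq_div (1 : X.presheaf.stalk x.1) (Mero.regGerm x ⟨c, hc⟩)).trans (map_one _))

theorem regU_val {U : X.Opens} (c : Γ(X, U)) (hc : c ∈ Mero.regSub X U) (y : U) :
    (unitAt (regU c hc) y : Mero.KStalk X y.1) = algebraMap _ _ (X.presheaf.germ U y.1 y.2 c) := rfl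

theorem exists_extension_affine (hfin : FinWA X) {U V : X.Opens} (hU : IsAffineOpen U) (hVU : V ≤ U)
    (hV : ∀ y ∈ U, Curv2.IsWeakAssPoint (Coh.structureModule X) y → y ∈ V) (g : Γ(X, V)) :
    ∃ (a b : Γ(X, U)) (hb : b ∈ Mero.regSub X U), ∀ y : V,
      X.presheaf.germ U y.1 (hVU y.2) b * X.presheaf.germ V y.1 y.2 g = X.presheaf.germ U y.1 (hVU y.2) a ∧
      ((Mero.toK X U a * ((regU b hb)⁻¹ : (Γ(Mero.kmod X, U))ˣ)).1 ⟨y.1, hVU y.2⟩ : Mero.KStalk X y.1) =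
        algebraMap _ _ (X.presheaf.germ V y.1 y.2 g) := by
  obtain ⟨b, hb, a, hab⟩ := exists_frac hfin hU V hVU hV g
  refine ⟨a, b, hb, fun y => ?_⟩
  have h := congrArg (X.presheaf.germ V y.1 y.2) hab
  rw [map_mul, TopCat.Presheaf.germ_res_apply, TopCat.Presheaf.germ_res_apply] at h
  refine ⟨h, ?_⟩
  change (Mero.toK X U a).1 ⟨y.1, hVU y.2⟩ * (unitAt (regU b hb)⁻¹ ⟨y.1, hVU y.2⟩ : Mero.KStalk X y.1) = _
  rw [toK_val, unitAt, map_inv, ← h, map_mul, ← regU_val b hb ⟨y.1, hVU y.2⟩, mul_comm, ← mul_assoc, unitAt,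
    Units.inv_mul, one_mul]

theorem exists_kmod_extension (hfin : FinWA X) {U V : X.Opens} (hVU : V ≤ U)
    (hV : ∀ y ∈ U, Curv2.IsWeakAssPoint (Coh.structureModule X) y → y ∈ V) (g : Γ(X, V)) :
    ∃ s : Γ(Mero.kmod X, U), ∀ y : V, s.1 ⟨y.1, hVU y.2⟩ = algebraMap _ _ (X.presheaf.germ V y.1 y.2 g) := by
  have hloc : ∀ x : U, ∃ (W : X.Opens) (_ : x.1 ∈ W) (_ : W ≤ U) (s : Γ(Mero.kmod X, W)),
      ∀ (y : X) (hy : y ∈ W) (hyV : y ∈ V), s.1 ⟨y, hy⟩ = algebraMap _ _ (X.presheaf.germ V y hyV g) := by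
    intro x
    obtain ⟨W, hW, hxW, hWU⟩ := exists_isAffineOpen_mem_and_subset (U := U) x.2
    obtain ⟨a, b, hb, hab⟩ := exists_extension_affine hfin hW (inf_le_left : W ⊓ V ≤ W)
      (fun y hy hwa => ⟨hy, hV y (hWU hy) hwa⟩) (X.presheaf.map (homOfLE inf_le_right).op g)
    refine ⟨W, hxW, hWU, _, fun y hy hyV => ((hab ⟨y, hy, hyV⟩).2).trans ?_⟩
    rw [TopCat.Presheaf.germ_res_apply]
  choose W hxW hWU s hs using hloc
  let F : TopCat.Sheaf AddCommGrpCat X.carrier := ⟨(Mero.kmod X).presheaf, (Mero.kmod X).isSheaf⟩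
  have hcomp : TopCat.Presheaf.IsCompatible (Mero.kmod X).presheaf W s := fun x x' => by
    refine kmod_eq_of_weakAss _ _ fun y hwa => ?_
    have hyV : y.1 ∈ V := hV y.1 (hWU x y.2.1) hwa
    exact (hs x y.1 y.2.1 hyV).trans (hs x' y.1 y.2.2 hyV).symm
  obtain ⟨t, ht, -⟩ := F.existsUnique_gluing' W U (fun x => homOfLE (hWU x))
    (fun z hz => Opens.mem_iSup.mpr ⟨⟨z, hz⟩, hxW ⟨z, hz⟩⟩) s hcomp
  refine ⟨t, fun y => ?_⟩
  rw [← hs ⟨y.1, hVU y.2⟩ y.1 (hxW _) y.2, ← ht ⟨y.1, hVU y.2⟩]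
  rfl

variable {L : X.Modules}

/-- A regular meromorphic section from compatible generators at the weakly associated points. -/
theorem exists_regSec (hfin : FinWA X) (τ : ∀ y : X, L.presheaf.stalk y)
    (H : ∀ x : X, ∃ (U : X.Opens) (_ : x ∈ U) (_ : IsAffineOpen U) (e : Γ(L, U)) (V : X.Opens) (hVU : V ≤ U)
      (a : Γ(X, V)), M2.IsGenerator e ∧ (∀ y ∈ U, Curv2.IsWeakAssPoint (Coh.structureModule X) y → y ∈ V) ∧
      ∀ y : V, Curv2.IsWeakAssPoint (Coh.structureModule X) y.1 →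
        IsUnit (X.presheaf.germ V y.1 y.2 a) ∧
          τ y.1 = X.presheaf.germ V y.1 y.2 a • L.presheaf.germ U y.1 (hVU y.2) e) :
    Nonempty (RegSec L) := by
  have key : ∀ x : X, ∃ (U : X.Opens) (_ : x ∈ U) (e : Γ(L, U)) (g : (Γ(Mero.kmod X, U))ˣ), M2.IsGenerator e ∧
      ∀ (y : X) (hy : y ∈ U), Curv2.IsWeakAssPoint (Coh.structureModule X) y →
        (unitAt g ⟨y, hy⟩ : Mero.KStalk X y) • inK (L.presheaf.germ U y hy e) = inK (τ y) := by
    intro x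
    obtain ⟨U, hxU, hU, e, V, hVU, a, he, hV, ha⟩ := H x
    obtain ⟨a', b, hb, hab⟩ := exists_extension_affine hfin hU hVU hV a
    have ha' : a' ∈ Mero.regSub X U := fun z => WA.germ_mem_nonZeroDivisors hU z.2 a' fun y hy _ hwa => by
      rw [← (hab ⟨y, hV y hy hwa⟩).1]
      refine IsUnit.mul ?_ (ha ⟨y, hV y hy hwa⟩ hwa).1
      exact WA.isUnit_germ_of_nonZeroDivisors hU hy hy specializes_rfl b (hb ⟨y, hy⟩) hwa
    refine ⟨U, hxU, e, regU a' ha' * (regU b hb)⁻¹, he, fun y hy hwa => ?_⟩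
    rw [(ha ⟨y, hV y hy hwa⟩ hwa).2, inK_smul, ← (hab ⟨y, hV y hy hwa⟩).2]
    rfl
  choose U hxU e g he hg using key
  refine ⟨⟨fun x => (unitAt (g x) ⟨x, hxU x⟩ : Mero.KStalk X x) • inK (L.presheaf.germ (U x) x (hxU x) (e x)),
    fun x => ⟨U x, hxU x, e x, g x, he x, fun y => ?_⟩⟩⟩
  obtain ⟨v, hv⟩ := (he x (U x ⊓ U y.1) inf_le_left).2 (M1.mres L inf_le_right (e y.1))
  have hgerm : ∀ (z : X) (hz : z ∈ U x ⊓ U y.1), L.presheaf.germ (U y.1) z hz.2 (e y.1) =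
      X.presheaf.germ (U x ⊓ U y.1) z hz v • L.presheaf.germ (U x) z hz.1 (e x) := fun z hz => by
    have h := congrArg (L.presheaf.germ (U x ⊓ U y.1) z hz) hv
    change L.presheaf.germ (U x ⊓ U y.1) z hz (v • M1.mres L (inf_le_left : U x ⊓ U y.1 ≤ U x) (e x)) = _ at h
    rw [M1.germ_smul, M1.germ_mres L (inf_le_left : U x ⊓ U y.1 ≤ U x) hz,
      M1.germ_mres L (inf_le_right : U x ⊓ U y.1 ≤ U y.1) hz] at h
    exact h.symm
  have hk : (Mero.kmod X).presheaf.map (homOfLE (inf_le_right : U x ⊓ U y.1 ≤ U y.1)).op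
        (g y.1 : Γ(Mero.kmod X, U y.1)) * Mero.toK X _ v =
      (Mero.kmod X).presheaf.map (homOfLE (inf_le_left : U x ⊓ U y.1 ≤ U x)).op (g x : Γ(Mero.kmod X, U x)) := by
    refine kmod_eq_of_weakAss _ _ fun z hwa => ?_
    have h1 := hg y.1 z.1 z.2.2 hwa
    rw [hgerm z.1 z.2, inK_smul, ← mul_smul, ← hg x z.1 z.2.1 hwa] at h1
    exact sub_eq_zero.1 (smul_inK_cancel (e x) (he x) z.2.1 _ ((sub_smul _ _ _).trans (sub_eq_zero.2 h1)))
  rw [hgerm y.1 ⟨y.2, hxU y.1⟩, inK_smul, ← mul_smul]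
  congr 1
  exact congrFun (congrArg Subtype.val hk) ⟨y.1, y.2, hxU y.1⟩

/-- The germs of local generators are generators. -/
theorem smul_eq_of_isUnit {U : X.Opens} (t : Γ(L, U)) (e : Γ(L, U)) (he : M2.IsGenerator e) :
    ∃ a : Γ(X, U), ∀ (y : X) (hy : y ∈ U),
      L.presheaf.germ U y hy t = X.presheaf.germ U y hy a • L.presheaf.germ U y hy e := by
  obtain ⟨a, ha⟩ := (he U le_rfl).2 t
  refine ⟨a, fun y hy => ?_⟩
  rw [← M1.germ_smul, ← ha]
  change L.presheaf.germ U y hy (a • M1.mres L le_rfl e) = _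
  rw [M1.mres_id]

end Groth.Agent.MeroLib
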