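import Groth.Agent.Lib.MeroLib.Basic
import Groth.Agent.Lib.WeakAss18.Iso
import Groth.Agent.Lib.CubeField.Fin
import Mathlib.RingTheory.Ideal.MinimalPrime.Basic
import Mathlib.AlgebraicGeometry.Properties

/-!
# Meromorphic functions when there are locally finitely many weakly associated points
-/

set_option autoImplicit false
set_option backward.isDefEq.respectTransparency false

universe u

noncomputable section

open CategoryTheory AlgebraicGeometry TopologicalSpace Opposite

namespace Groth.Agent.MeroLib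

variable {X : Scheme.{u}}

/-- Finitely many weakly associated points of the structure sheaf in each affine open. -/
def FinWA (X : Scheme.{u}) : Prop :=
  ∀ U : X.Opens, IsAffineOpen U → {y : X | y ∈ U ∧ Curv2.IsWeakAssPoint (Coh.structureModule X) y}.Finite

theorem finWA_of_noetherian [IsLocallyNoetherian X] : FinWA X := fun _ hU =>
  WA.finite_weakAss_affine (M1.isQCoh_structureModule X) (M1.isCoh_structureModule X).2 hU

theorem isIrreducibleComponent_of_maximal {y : X} (h : ∀ z, z ⤳ y → z = y) :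
    closure ({y} : Set X) ∈ irreducibleComponents X := by
  refine ⟨isIrreducible_singleton.closure, fun Z hZ hle => ?_⟩
  have hZc : IsIrreducible (closure Z) := hZ.closure
  obtain ⟨η, hη⟩ := QuasiSober.sober hZc isClosed_closure
  have hy : η ⤳ y := hη.specializes (subset_closure (hle (subset_closure rfl)))
  rw [← h η hy]
  exact subset_closure.trans hη.def.ge

theorem finWA_of_reduced [IsReduced X]
    (h : ∀ x : X, ∃ W : X.Opens, x ∈ W ∧
      {Z : Set X | Z ∈ irreducibleComponents X ∧ (Z ∩ (W : Set X)).Nonempty}.Finite) : FinWA X := by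
  intro U hU
  choose W hW hfin using h
  obtain ⟨T, hT⟩ := hU.isCompact.elim_finite_subcover (fun x => (W x : Set X)) (fun x => (W x).isOpen)
    (fun x _ => Set.mem_iUnion.mpr ⟨x, hW x⟩)
  refine Set.Finite.subset (s := ⋃ x ∈ T, {y : X | y ∈ W x ∧ ∀ z, z ⤳ y → z = y})
    (T.finite_toSet.biUnion fun x _ => ?_) ?_
  · refine Set.Finite.of_finite_image (f := fun y : X => closure ({y} : Set X)) ?_ ?_
    · refine (hfin x).subset ?_
      rintro _ ⟨y, ⟨hy, hmax⟩, rfl⟩
      exact ⟨isIrreducibleComponent_of_maximal hmax, y, subset_closure rfl, hy⟩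
    · intro y _ y' _ e
      exact (inseparable_iff_closure_eq.2 e).eq
  · rintro y ⟨hy, hwa⟩
    obtain ⟨x, hx, hyx⟩ := Set.mem_iUnion₂.mp (hT hy)
    exact Set.mem_iUnion₂.mpr ⟨x, hx, hyx, fun z hz => WA.eq_of_specializes_weakAss hwa hz⟩

/-- A function vanishing at the weakly associated points vanishes. -/
theorem eq_zero_of_germ {W : X.Opens} (a : Γ(X, W))
    (h : ∀ y (hy : y ∈ W), Curv2.IsWeakAssPoint (Coh.structureModule X) y → X.presheaf.germ W y hy a = 0) : a = 0 := by
  haveI := M1.isQCoh_structureModule X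
  refine TopCat.Presheaf.section_ext X.sheaf W a 0 fun x hx => ?_
  change X.presheaf.germ W x hx a = X.presheaf.germ W x hx 0
  rw [map_zero]
  obtain ⟨U, hU, hxU, hUW⟩ := exists_isAffineOpen_mem_and_subset (U := W) hx
  rw [← X.presheaf.germ_res_apply (homOfLE hUW) x hxU a, ← WA.germ_O_eq_zero_iff hxU]
  by_contra hne
  obtain ⟨y, hy, -, hwa, hny⟩ := WA.exists_weakAss hU hxU _ hne
  refine hny ((WA.germ_O_eq_zero_iff hy _).2 ?_)
  rw [X.presheaf.germ_res_apply (homOfLE hUW) y hy a]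
  exact h y (hUW hy) hwa

/-- A meromorphic function vanishing at the weakly associated points vanishes. -/
theorem kmod_eq_of_weakAss {W : X.Opens} (s t : Γ(Mero.kmod X, W))
    (h : ∀ y : W, Curv2.IsWeakAssPoint (Coh.structureModule X) y.1 → s.1 y = t.1 y) : s = t := by
  refine kmod_ext fun x => sub_eq_zero.1 ?_
  change (s - t).1 x = 0
  obtain ⟨V, hxV, i, a, b, hab⟩ := (s - t).2 x
  have hab' : ∀ y : V, (s - t).1 ⟨y.1, i.le y.2⟩ =
      LocalizedModule.mk (X.presheaf.germ V y.1 y.2 a) (Mero.regGerm y b) := hab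
  have ha : a = 0 := eq_zero_of_germ a fun y hy hwa => by
    have h1 := WA.mk_eq_div (X.presheaf.germ V y hy a) (Mero.regGerm ⟨y, hy⟩ b)
    rw [← hab' ⟨y, hy⟩, show (s - t).1 ⟨y, i.le hy⟩ = 0 from sub_eq_zero.2 (h ⟨y, i.le hy⟩ hwa), zero_mul,
      ← map_zero (algebraMap (X.presheaf.stalk y) (Mero.KStalk X y))] at h1
    exact (Mero.algebraMap_KStalk_injective y h1).symm
  rw [show (s - t).1 x = (s - t).1 ⟨x.1, i.le hxV⟩ from rfl, hab' ⟨x.1, hxV⟩, ha, map_zero, LocalizedModule.zero_mk]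

/-- Schematically dense opens contain the weakly associated points. -/
theorem mem_of_dense (hfin : FinWA X) {U V : X.Opens}
    (hV : ∀ W : X.Opens, W ≤ U → Function.Injective ⇑(X.presheaf.map (homOfLE (inf_le_left : W ⊓ V ≤ W)).op))
    {y : X} (hyU : y ∈ U) (hwa : Curv2.IsWeakAssPoint (Coh.structureModule X) y) : y ∈ V := by
  classical
  haveI := M1.isQCoh_structureModule X
  by_contra hyV
  obtain ⟨m, hm⟩ := hwa
  obtain ⟨A, hA, hyA, hAU⟩ := exists_isAffineOpen_mem_and_subset (U := U) hyU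
  obtain ⟨r, t, hr, hrt⟩ := M1.exists_germ_smul_eq (Coh.structureModule X) hA hyA m
  let T := {z : X | (z ∈ A ∧ Curv2.IsWeakAssPoint (Coh.structureModule X) z) ∧ ¬ z ⤳ y}
  have hT : T.Finite := (hfin A hA).subset fun z hz => hz.1
  let W : X.Opens := A ⊓ ⟨(⋃ z ∈ T, closure ({z} : Set X))ᶜ,
    (hT.isClosed_biUnion fun _ _ => isClosed_closure).isOpen_compl⟩
  have hyW : y ∈ W := ⟨hyA, fun hy => by
    obtain ⟨z, hz, hzy⟩ := Set.mem_iUnion₂.mp hy
    exact hz.2 (specializes_iff_mem_closure.mpr hzy)⟩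
  have hWA : W ≤ A := inf_le_left
  have ht : (Coh.structureModule X).presheaf.germ A y hyA t ≠ 0 := fun h0 => by
    obtain ⟨u, hu⟩ := hr
    refine WA.ne_zero_of_radical_ann hm ?_
    rw [← one_smul (X.presheaf.stalk y) m, ← Units.inv_mul u, mul_smul, hu, hrt, h0, smul_zero]
  let t' : Γ(X, W) := X.presheaf.map (homOfLE hWA).op (show Γ(X, A) from t)
  have ht0 : X.presheaf.map (homOfLE (inf_le_left : W ⊓ V ≤ W)).op t' = 0 := by
    refine eq_zero_of_germ _ fun z hz hz' => ?_
    rw [TopCat.Presheaf.germ_res_apply, TopCat.Presheaf.germ_res_apply]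
    have hzy : z ⤳ y := by
      by_contra hzy
      exact hz.1.2 (Set.mem_iUnion₂.mpr ⟨z, ⟨⟨hWA hz.1, hz'⟩, hzy⟩, subset_closure rfl⟩)
    obtain ⟨c, hcm, hcu⟩ : ∃ c : Γ(X, A), ¬ IsUnit (X.presheaf.germ A y hyA c) ∧
        IsUnit (X.presheaf.germ A z (hWA hz.1) c) := by
      by_contra hall
      push Not at hall
      have hsp : y ⤳ z := WA.specializes_of_isUnit hA (hWA hz.1) hyA fun c hc => by
        by_contra hcy
        exact hall c hcy hc
      exact hyV (hsp.antisymm hzy |>.eq ▸ hz.2)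
    obtain ⟨k, hk⟩ := WA.exists_pow_smul_eq_zero hm ((IsLocalRing.mem_maximalIdeal _).2 hcm)
    have h1 : (Coh.structureModule X).presheaf.germ A y hyA (c ^ k • t) = 0 := by
      rw [M1.germ_smul, ← hrt, smul_comm, map_pow, hk, smul_zero]
    have h2 := (WA.germ_O_eq_zero_iff (hWA hz.1) _).1 (WA.germ_zero_of_specializes hyA (hWA hz.1) hzy _ h1)
    change X.presheaf.germ A z (hWA hz.1) (c ^ k * (show Γ(X, A) from t)) = 0 at h2
    rw [map_mul, map_pow] at h2
    exact (hcu.pow k).mul_right_eq_zero.1 h2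
  have h3 := hV W (hWA.trans hAU) (ht0.trans (map_zero _).symm)
  refine ht ((WA.germ_O_eq_zero_iff hyA _).2 ?_)
  rw [← X.presheaf.germ_res_apply (homOfLE hWA) y hyW (show Γ(X, A) from t)]
  exact (congrArg (X.presheaf.germ W y hyW) h3).trans (map_zero _)

/-- An open containing the weakly associated points contains a basic open around all of them. -/
theorem exists_frac (hfin : FinWA X) {U : X.Opens} (hU : IsAffineOpen U) (V : X.Opens) (hVU : V ≤ U)
    (hV : ∀ y ∈ U, Curv2.IsWeakAssPoint (Coh.structureModule X) y → y ∈ V) (g : Γ(X, V)) :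
    ∃ b ∈ Mero.regSub X U, ∃ a : Γ(X, U),
      X.presheaf.map (homOfLE hVU).op b * g = X.presheaf.map (homOfLE hVU).op a := by
  classical
  haveI := M1.isQCoh_structureModule X
  let C : Ideal Γ(X, U) := PrimeSpectrum.vanishingIdeal (hU.fromSpec ⁻¹' (V : Set X))ᶜ
  let pr : X → Ideal Γ(X, U) := fun y => if h : y ∈ U then (hU.primeIdealOf ⟨y, h⟩).asIdeal else ⊥
  obtain ⟨b, hbC, hb⟩ : ∃ b ∈ C, ∀ y (hy : y ∈ U), Curv2.IsWeakAssPoint (Coh.structureModule X) y →
      IsUnit (X.presheaf.germ U y hy b) := by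
    by_contra hcon
    push Not at hcon
    have hsub : (C : Set Γ(X, U)) ⊆ ⋃ y ∈ ((hfin U hU).toFinset : Set X), (pr y : Set Γ(X, U)) := by
      intro b hb
      obtain ⟨y, hy, hwa, hu⟩ := hcon b hb
      refine Set.mem_iUnion₂.mpr ⟨y, (Set.Finite.mem_toFinset _).mpr ⟨hy, hwa⟩, ?_⟩
      simp only [pr, dif_pos hy]
      by_contra hnot
      exact hu ((M1.isUnit_germ_iff hU hy b).mpr hnot)
    rcases (hfin U hU).toFinset.eq_empty_or_nonempty with he | ⟨y₀, hy₀⟩
    · have := hsub (C.zero_mem : (0 : Γ(X, U)) ∈ C)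
      simp [he] at this
    obtain ⟨y, hy, hle⟩ := (Ideal.subset_union_prime y₀ y₀ fun y hy _ _ => by
      simp only [pr, dif_pos ((Set.Finite.mem_toFinset _).mp hy).1]; infer_instance).mp hsub
    obtain ⟨hyU, hwa⟩ := (Set.Finite.mem_toFinset _).mp hy
    simp only [pr, dif_pos hyU] at hle
    have hmem : hU.primeIdealOf ⟨y, hyU⟩ ∈ PrimeSpectrum.zeroLocus (C : Set Γ(X, U)) := hle
    rw [PrimeSpectrum.zeroLocus_vanishingIdeal_eq_closure,
      IsClosed.closure_eq ((V.isOpen.preimage hU.fromSpec.continuous).isClosed_compl)] at hmem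
    refine hmem ?_
    change hU.fromSpec (hU.primeIdealOf ⟨y, hyU⟩) ∈ V
    rw [hU.fromSpec_primeIdealOf]
    exact hV y hyU hwa
  have hbV : X.basicOpen b ≤ V := fun z hz => by
    have hzU := X.basicOpen_le b hz
    by_contra hzV
    refine (M1.isUnit_germ_iff hU hzU b).mp ((X.mem_basicOpen b z hzU).mp hz) ?_
    refine (PrimeSpectrum.mem_vanishingIdeal _ b).mp hbC (hU.primeIdealOf ⟨z, hzU⟩) ?_
    intro h
    change hU.fromSpec (hU.primeIdealOf ⟨z, hzU⟩) ∈ V at h
    rw [hU.fromSpec_primeIdealOf] at h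
    exact hzV h
  have hbreg : b ∈ Mero.regSub X U := fun z =>
    WA.germ_mem_nonZeroDivisors hU z.2 b fun y hy _ hwa => hb y hy hwa
  haveI := hU.isLocalization_basicOpen b
  obtain ⟨⟨a, bk⟩, hak⟩ := IsLocalization.surj (Submonoid.powers b) (X.presheaf.map (homOfLE hbV).op g)
  obtain ⟨k, hk⟩ := bk.2
  refine ⟨b ^ k, pow_mem hbreg k, a, sub_eq_zero.1 (eq_zero_of_germ _ fun z hz hwa => ?_)⟩
  have hzb : z ∈ X.basicOpen b := (X.mem_basicOpen b z (hVU hz)).mpr (hb z (hVU hz) hwa)
  have h1 := congrArg (X.presheaf.germ (X.basicOpen b) z hzb) hak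
  rw [map_mul, TopCat.Presheaf.germ_res_apply] at h1
  erw [TopCat.Presheaf.germ_res_apply, TopCat.Presheaf.germ_res_apply] at h1
  rw [map_sub, map_mul, TopCat.Presheaf.germ_res_apply, TopCat.Presheaf.germ_res_apply, sub_eq_zero,
    show b ^ k = bk.1 from hk, mul_comm]
  exact h1

end Groth.Agent.MeroLib
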