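import Groth.Agent.Lib.MeroLib.OfSection
import Groth.Agent.Lib.MeroLib.ZeroScheme
import Mathlib.AlgebraicGeometry.FunctionField

/-!
# The divisor of a section on an integral scheme
-/

set_option autoImplicit false
set_option backward.isDefEq.respectTransparency false

universe u

noncomputable section

open CategoryTheory AlgebraicGeometry TopologicalSpace Opposite

namespace Groth.Agent.MeroLib

variable {X : Scheme.{u}} [IsIntegral X] {L : X.Modules} (s : Coh.structureModule X ⟶ L)

theorem exists_coeff {U : X.Opens} (e : Γ(L, U)) (he : M2.IsGenerator e) :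
    ∃ c : Γ(X, U), sval L s U = c • e := by
  obtain ⟨c, hc⟩ := (he U le_rfl).2 (sval L s U)
  refine ⟨c, hc.symm.trans ?_⟩
  change c • M1.mres L le_rfl e = c • e
  rw [M1.mres_id]

theorem app_eq (V : X.Opens) (r : Γ(X, V)) :
    s.app V (show Γ(Coh.structureModule X, V) from r) = r • sval L s V := by
  have e : (show Γ(Coh.structureModule X, V) from r) = r • (show Γ(Coh.structureModule X, V) from (1 : Γ(X, V))) :=
    (mul_one r).symm
  exact (congrArg (s.app V) e).trans (Scheme.Modules.Hom.app_smul _ _ _)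

theorem germ_sval {U : X.Opens} {x : X} (hx : x ∈ U) :
    L.presheaf.germ U x hx (sval L s U) = L.presheaf.germ ⊤ x (Opens.mem_top x) (sval L s ⊤) := by
  rw [← mres_sval L s (le_top : U ≤ ⊤)]
  exact M1.germ_mres L (le_top : U ≤ ⊤) hx _

theorem eq_zero_of_coeff (hL : PicF.IsInvertible L) {U : X.Opens} {x : X} (hx : x ∈ U)
    (h : sval L s U = 0) : s = 0 := by
  have key : ∀ y : X, L.presheaf.germ ⊤ y (Opens.mem_top y) (sval L s ⊤) = 0 := by
    intro y
    obtain ⟨V, hy, ⟨i⟩⟩ := hL y
    obtain ⟨e, he⟩ := M2.exists_generator i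
    obtain ⟨c, hc⟩ := exists_coeff s e he
    haveI : Nonempty U := ⟨⟨x, hx⟩⟩
    haveI : Nonempty V := ⟨⟨y, hy⟩⟩
    obtain ⟨z, hzU, hzV⟩ := nonempty_preirreducible_inter U.2 V.2 ⟨x, hx⟩ ⟨y, hy⟩
    have h1 := germ_sval s hzU
    rw [h, map_zero, ← germ_sval s hzV, hc, M1.germ_smul] at h1
    have hc0 : c = 0 := germ_injective_of_isIntegral X z hzV
      ((smul_germ_cancel e he hzV _ h1.symm).trans (map_zero _).symm)
    rw [← germ_sval s hy, hc, hc0, zero_smul, map_zero]
  refine Scheme.Modules.hom_ext _ _ fun V => ?_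
  ext r
  change s.app V r = 0
  rw [show r = (show Γ(Coh.structureModule X, V) from (show Γ(X, V) from r)) from rfl, app_eq,
    show sval L s V = 0 from M1.section_ext _ 0 fun z hz => by rw [map_zero, germ_sval s hz, key z], smul_zero]

theorem coeff_regular (hL : PicF.IsInvertible L) (hs : s ≠ 0) {U : X.Opens} (e : Γ(L, U)) (c : Γ(X, U))
    (hc : sval L s U = c • e) : c ∈ Mero.regSub X U := fun y => by
  refine mem_nonZeroDivisors_of_ne_zero fun h => hs (eq_zero_of_coeff s hL y.2 ?_)
  rw [hc, show c = 0 from germ_injective_of_isIntegral X y.1 y.2 (h.trans (map_zero _).symm), zero_smul]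

/-- A regular section as a unit of the meromorphic functions. -/
def regUnit {U : X.Opens} (c : Γ(X, U)) (hc : c ∈ Mero.regSub X U) : (Γ(Mero.kmod X, U))ˣ where
  val := Mero.toK X U c
  inv := ⟨fun x => LocalizedModule.mk 1 (Mero.regGerm x ⟨c, hc⟩), fun x => ⟨U, x.2, 𝟙 _, 1, ⟨c, hc⟩, fun y => by
    change LocalizedModule.mk 1 _ = LocalizedModule.mk _ _
    congr 1
    rw [map_one]⟩⟩
  val_inv := Subtype.ext (funext fun x => by
    change (LocalizedModule.mk (X.presheaf.germ U x.1 x.2 c) 1 : Mero.KStalk X x.1) * LocalizedModule.mk 1 _ = 1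
    rw [mul_comm]
    exact (WA.mk_eq_div (1 : X.presheaf.stalk x.1) (Mero.regGerm x ⟨c, hc⟩)).trans (map_one _))
  inv_val := Subtype.ext (funext fun x => by
    change (LocalizedModule.mk 1 _ : Mero.KStalk X x.1) * LocalizedModule.mk (X.presheaf.germ U x.1 x.2 c) 1 = 1
    exact (WA.mk_eq_div (1 : X.presheaf.stalk x.1) (Mero.regGerm x ⟨c, hc⟩)).trans (map_one _))

theorem regUnit_val {U : X.Opens} (c : Γ(X, U)) (hc : c ∈ Mero.regSub X U) (y : U) :
    (unitAt (regUnit c hc) y : Mero.KStalk X y.1) = algebraMap _ _ (X.presheaf.germ U y.1 y.2 c) := rfl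

/-- A nonzero section of an invertible module on an integral scheme as a regular meromorphic section. -/
def regSec (hL : PicF.IsInvertible L) (hs : s ≠ 0) : RegSec L where
  σ x := inK (L.presheaf.germ ⊤ x (Opens.mem_top x) (sval L s ⊤))
  eqn x := by
    obtain ⟨U, hx, ⟨i⟩⟩ := hL x
    obtain ⟨e, he⟩ := M2.exists_generator i
    obtain ⟨c, hc⟩ := exists_coeff s e he
    refine ⟨U, hx, e, regUnit c (coeff_regular s hL hs e c hc), he, fun y => ?_⟩
    rw [← germ_sval s y.2, hc, M1.germ_smul, inK_smul, regUnit_val]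

theorem isDivOfIdeal (hL : PicF.IsInvertible L) (hs : s ≠ 0) :
    Mero.IsDivOfIdeal (regSec s hL hs).divisor (PicF2.zeroScheme L s) := by
  intro x
  obtain ⟨U, hx, ⟨i⟩⟩ := hL x
  obtain ⟨e, he⟩ := M2.exists_generator i
  obtain ⟨W, hW, hxW, hWU⟩ := exists_isAffineOpen_mem_and_subset (U := U) hx
  let e' := M1.mres L hWU e
  have he' : M2.IsGenerator e' := fun V hV => by
    have : (fun r : Γ(X, V) => r • M2.res L hV e') = fun r => r • M2.res L (hV.trans hWU) e := by
      funext r
      change r • M1.mres L hV (M1.mres L hWU e) = r • M1.mres L (hV.trans hWU) e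
      rw [M1.mres_mres]
    rw [this]
    exact he V (hV.trans hWU)
  obtain ⟨c, hc⟩ := exists_coeff s e' he'
  have hreg := coeff_regular s hL hs e' c hc
  have hbij : Function.Bijective fun r : Γ(X, W) => r • e' := by
    have := he' W le_rfl
    rwa [show M2.res L (le_refl W) e' = e' from M1.mres_id _ _ _] at this
  refine ⟨⟨W, hW⟩, hxW, c, hreg, ?_, fun y => ?_⟩
  · exact (zeroScheme_ideal L s hL ⟨W, hW⟩).trans (zI_eq_span L s e' hbij c hc)
  · let C : (regSec s hL hs).Chart := ⟨W, e', regUnit c hreg, he', fun z => by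
      change inK _ = _
      rw [← germ_sval s z.2, hc, M1.germ_smul, inK_smul, regUnit_val]⟩
    refine ((regSec s hL hs).divisor_eq C y).trans ?_
    exact congrArg _ (Units.ext rfl)

theorem hom_sval (hL : PicF.IsInvertible L) (hs : s ≠ 0) :
    (Mero.divModι (regSec s hL hs).divisor).app ⊤ ((regSec s hL hs).hom.app ⊤ (sval L s ⊤)) = 1 :=
  Subtype.ext (funext fun x => (regSec s hL hs).quot_eq (one_smul _ _))

end Groth.Agent.MeroLib
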