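import Groth.Agent.Lib.MeroLib.DivMod
import Groth.Agent.Lib.TensorMod.Hom
import Groth.Agent.Lib.ModM1.Exact
import Groth.Agent.Lib.WeakAss18.Iso

/-!
# `O(D) ⊗ O(E) ≅ O(D + E)`
-/

set_option autoImplicit false
set_option backward.isDefEq.respectTransparency false

universe u

noncomputable section

open CategoryTheory AlgebraicGeometry TopologicalSpace Opposite TensorProduct

namespace Groth.Agent.MeroLib

variable {X : Scheme.{u}} (D E : Mero.Divisor X)

theorem divCond_mul_mul {x : X} {t t' : Mero.KStalk X x} (ht : Mero.DivCond D x t) (ht' : Mero.DivCond E x t') :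
    Mero.DivCond (D * E) x (t * t') := by
  obtain ⟨g, hg⟩ := QuotientGroup.mk_surjective (D.1 x)
  obtain ⟨h, hh⟩ := QuotientGroup.mk_surjective (E.1 x)
  have e : (D * E).1 x = QuotientGroup.mk (g * h) := by
    change D.1 x * E.1 x = _
    rw [← hg, ← hh, QuotientGroup.mk_mul]
  refine (divCond_iff (D * E) x _ (g * h) e).2 ?_
  rw [Units.val_mul, mul_mul_mul_comm]
  exact mul_mem (ht g hg.symm) (ht' h hh.symm)

/-- The product of sections. -/
def mulBiMap : M2.BiMap (Mero.divMod D) (Mero.divMod E) (Mero.divMod (D * E)) where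
  f U t t' := (⟨(toKm t * toKm t').1, (toKm t * toKm t').2, fun x => divCond_mul_mul D E (t.2.2 x) (t'.2.2 x)⟩ :
    Γ(Mero.divMod (D * E), U))
  add_left U s s' t := Subtype.ext (funext fun x => add_mul (s.1 x) (s'.1 x) (t.1 x))
  smul_left U r s t := Subtype.ext (funext fun x => smul_mul_assoc _ (s.1 x) (t.1 x))
  add_right U s t t' := Subtype.ext (funext fun x => mul_add (s.1 x) (t.1 x) (t'.1 x))
  smul_right U r s t := Subtype.ext (funext fun x => mul_smul_comm _ (s.1 x) (t.1 x))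
  compat _ _ _ := Subtype.ext (funext fun _ => rfl)

/-- The multiplication map. -/
def mulMor : CohB1.tensorMod (Mero.divMod D) (Mero.divMod E) ⟶ Mero.divMod (D * E) := M2.mkHom (mulBiMap D E)

theorem mulMor_tsec {U : X.Opens} (t : Γ(Mero.divMod D, U)) (t' : Γ(Mero.divMod E, U)) :
    toKm ((mulMor D E).app U (M2.tsec _ _ t t')) = toKm t * toKm t' :=
  (congrArg toKm (M2.mkHom_tsec (mulBiMap D E) t t')).trans (Subtype.ext (funext fun _ => rfl))

theorem germ_eq_smul {F : X.Modules} {U : X.Opens} (e : Γ(F, U))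
    (he : ∀ (V : X.Opens) (hV : V ≤ U), Function.Bijective fun r : Γ(X, V) => r • M1.mres F hV e)
    {x : X} (hx : x ∈ U) (m : F.presheaf.stalk x) :
    ∃ c : X.presheaf.stalk x, m = c • F.presheaf.germ U x hx e := by
  obtain ⟨V, hxV, s, rfl⟩ := F.presheaf.exists_germ_eq m
  obtain ⟨r, hr⟩ := (he (V ⊓ U) inf_le_right).2 (M1.mres F inf_le_left s)
  refine ⟨X.presheaf.germ (V ⊓ U) x ⟨hxV, hx⟩ r, ?_⟩
  have h := congrArg (F.presheaf.germ (V ⊓ U) x ⟨hxV, hx⟩) hr
  rw [M1.germ_smul, M1.germ_mres F (inf_le_right : V ⊓ U ≤ U) ⟨hxV, hx⟩,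
    M1.germ_mres F (inf_le_left : V ⊓ U ≤ V) ⟨hxV, hx⟩] at h
  exact h.symm

theorem smul_germ_eq_zero {F : X.Modules} {U : X.Opens} (e : Γ(F, U))
    (he : ∀ (V : X.Opens) (hV : V ≤ U), Function.Bijective fun r : Γ(X, V) => r • M1.mres F hV e)
    {x : X} (hx : x ∈ U) (c : X.presheaf.stalk x) (h : c • F.presheaf.germ U x hx e = 0) : c = 0 := by
  obtain ⟨V, hxV, r, rfl⟩ := X.presheaf.exists_germ_eq c
  have h' : F.presheaf.germ (V ⊓ U) x ⟨hxV, hx⟩
      (M1.ores (inf_le_left : V ⊓ U ≤ V) r • M1.mres F (inf_le_right : V ⊓ U ≤ U) e) =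
      F.presheaf.germ (V ⊓ U) x ⟨hxV, hx⟩ 0 := by
    rw [M1.germ_smul, M1.germ_mres F (inf_le_right : V ⊓ U ≤ U) ⟨hxV, hx⟩, TopCat.Presheaf.germ_res_apply, h, map_zero]
  obtain ⟨W, hxW, i, i', e'⟩ := F.presheaf.germ_eq x _ _ _ _ h'
  rw [map_zero] at e'
  have e'' : M1.mres F i.le (M1.ores (inf_le_left : V ⊓ U ≤ V) r • M1.mres F (inf_le_right : V ⊓ U ≤ U) e) = 0 := e'
  rw [M1.mres_smul, M1.ores_ores, M1.mres_mres] at e''
  have h3 := (he W (i.le.trans inf_le_right)).1 (e''.trans (zero_smul _ _).symm)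
  rw [← X.presheaf.germ_res_apply (homOfLE (i.le.trans inf_le_left)) x hxW r]
  exact (congrArg (X.presheaf.germ W x hxW) h3).trans (map_zero _)

theorem isIso_mulMor : IsIso (mulMor D E) := by
  rw [M1.isIso_iff_stalk]
  intro x
  obtain ⟨U₁, hx₁, g, hg⟩ := D.2 x
  obtain ⟨U₂, hx₂, h, hh⟩ := E.2 x
  let U := U₁ ⊓ U₂
  have hx : x ∈ U := ⟨hx₁, hx₂⟩
  let g' : (Γ(Mero.kmod X, U))ˣ :=
    Units.map ((Mero.kring X).obj.map (homOfLE (inf_le_left : U ≤ U₁)).op).hom.toMonoidHom g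
  let h' : (Γ(Mero.kmod X, U))ˣ :=
    Units.map ((Mero.kring X).obj.map (homOfLE (inf_le_right : U ≤ U₂)).op).hom.toMonoidHom h
  have hg' : ∀ y : U, D.1 y.1 = Mero.germOf g' y := fun y => hg ⟨y.1, inf_le_left (b := U₂) y.2⟩
  have hh' : ∀ y : U, E.1 y.1 = Mero.germOf h' y := fun y => hh ⟨y.1, inf_le_right (a := U₁) y.2⟩
  have hgh : ∀ y : U, (D * E).1 y.1 = Mero.germOf (g' * h') y := fun y => by
    change D.1 y.1 * E.1 y.1 = _
    rw [hg' y, hh' y, Mero.germOf, Mero.germOf, Mero.germOf, map_mul, QuotientGroup.mk_mul]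
  let eD := genSec D g' hg'
  let eE := genSec E h' hh'
  let e := genSec (D * E) (g' * h') hgh
  have hprod : (mulMor D E).app U (M2.tsec _ _ eD eE) = e := by
    have h1 := mulMor_tsec D E eD eE
    refine Subtype.ext (funext fun y => (congrFun (congrArg Subtype.val h1) y).trans ?_)
    change ((g'⁻¹ : (Γ(Mero.kmod X, U))ˣ) : Γ(Mero.kmod X, U)).1 y * ((h'⁻¹ : (Γ(Mero.kmod X, U))ˣ) : Γ(Mero.kmod X, U)).1 y =
      (((g' * h')⁻¹ : (Γ(Mero.kmod X, U))ˣ) : Γ(Mero.kmod X, U)).1 y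
    rw [mul_inv, Units.val_mul, Mero.kmod_mul_apply]
  let z₀ := (CohB1.tensorMod (Mero.divMod D) (Mero.divMod E)).presheaf.germ U x hx (M2.tsec _ _ eD eE)
  have himg : ∀ c : X.presheaf.stalk x, (M1.stalkAb x).map (mulMor D E) (c • z₀) =
      c • (Mero.divMod (D * E)).presheaf.germ U x hx e := fun c => by
    rw [WA.stalkAb_map_smul]
    congr 1
    exact (TopCat.Presheaf.stalkFunctor_map_germ_apply U x hx (mulMor D E).mapPresheaf _).trans (congrArg _ hprod)
  have hspan : ∀ z, ∃ c : X.presheaf.stalk x, z = c • z₀ := fun z => by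
    obtain ⟨w, rfl⟩ := (M2.stalkEquiv (Mero.divMod D) (Mero.divMod E) x).symm.surjective z
    induction w using TensorProduct.induction_on with
    | zero => exact ⟨0, by rw [map_zero, zero_smul]⟩
    | add a b ha hb =>
      obtain ⟨ca, hca⟩ := ha
      obtain ⟨cb, hcb⟩ := hb
      exact ⟨ca + cb, by rw [map_add, hca, hcb, add_smul]⟩
    | tmul a b =>
      obtain ⟨ca, rfl⟩ := germ_eq_smul eD (genSec_bijective D g' hg') hx a
      obtain ⟨cb, rfl⟩ := germ_eq_smul eE (genSec_bijective E h' hh') hx b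
      refine ⟨ca * cb, ?_⟩
      rw [TensorProduct.smul_tmul_smul, map_smul, ← M2.stalkEquiv_tsec _ _ x hx eD eE, LinearEquiv.symm_apply_apply]
  constructor
  · refine (injective_iff_map_eq_zero _).2 fun z hz => ?_
    obtain ⟨c, rfl⟩ := hspan z
    rw [himg] at hz
    rw [smul_germ_eq_zero e (genSec_bijective (D * E) (g' * h') hgh) hx c hz, zero_smul]
  · intro m
    obtain ⟨c, rfl⟩ := germ_eq_smul e (genSec_bijective (D * E) (g' * h') hgh) hx m
    exact ⟨c • z₀, himg c⟩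

end Groth.Agent.MeroLib
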