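import Groth.Agent.Lib.MeroLib.Integral

/-!
# Uniqueness of the divisor of an ideal, and divisors from trivialisations
-/

set_option autoImplicit false
set_option backward.isDefEq.respectTransparency false

universe u

noncomputable section

open CategoryTheory AlgebraicGeometry TopologicalSpace Opposite

namespace Groth.Agent.MeroLib

variable {X : Scheme.{u}}

/-- An effective Cartier ideal determines the divisor. -/
theorem eq_of_isDivOfIdeal {I : X.IdealSheafData} {D D' : Mero.Divisor X} (h : Mero.IsDivOfIdeal D I)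
    (h' : Mero.IsDivOfIdeal D' I) : D = D' := by
  refine Subtype.ext (funext fun x => ?_)
  obtain ⟨U, hxU, f, hf, hI, hD⟩ := h x
  obtain ⟨U', hxU', f', hf', hI', hD'⟩ := h' x
  obtain ⟨W, hW, hxW, hWU'⟩ := exists_isAffineOpen_mem_and_subset (U := (U : X.Opens) ⊓ U') ⟨hxU, hxU'⟩
  have hWU : W ≤ (U : X.Opens) ⊓ U' := hWU'
  have h1 := I.map_ideal (U := ⟨W, hW⟩) (V := U) (hWU.trans inf_le_left)
  have h2 := I.map_ideal (U := ⟨W, hW⟩) (V := U') (hWU.trans inf_le_right)
  rw [hI, Ideal.map_span, Set.image_singleton] at h1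
  rw [hI', Ideal.map_span, Set.image_singleton, ← h1] at h2
  have h3 := congrArg (Ideal.map (X.presheaf.germ W x hxW).hom) h2
  rw [Ideal.map_span, Ideal.map_span, Set.image_singleton, Set.image_singleton] at h3
  erw [TopCat.Presheaf.germ_res_apply, TopCat.Presheaf.germ_res_apply] at h3
  rw [hD ⟨x, hxU⟩, hD' ⟨x, hxU'⟩]
  obtain ⟨w, hw⟩ := Ideal.mem_span_singleton'.1 (h3 ▸ Ideal.subset_span (Set.mem_singleton _) :
    X.presheaf.germ U'.1 x hxU' f' ∈ Ideal.span {X.presheaf.germ U.1 x hxU f})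
  obtain ⟨w', hw'⟩ := Ideal.mem_span_singleton'.1 (h3.symm ▸ Ideal.subset_span (Set.mem_singleton _) :
    X.presheaf.germ U.1 x hxU f ∈ Ideal.span {X.presheaf.germ U'.1 x hxU' f'})
  refine germ_eq_of_range _ _ ⟨w, ?_⟩ ⟨w', ?_⟩
  · calc algebraMap _ (Mero.KStalk X x) w = algebraMap _ _ w * _ * _ :=
        (Units.mul_inv_cancel_right _ (IsLocalization.map_units (Mero.KStalk X x) (Mero.regGerm ⟨x, hxU⟩ ⟨f, hf⟩)).unit).symm
      _ = _ := by
        rw [mul_comm]
        congr 1
        rw [IsUnit.unit_spec, IsUnit.unit_spec]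
        exact (map_mul _ _ _).symm.trans (congrArg _ hw)
  · calc algebraMap _ (Mero.KStalk X x) w' = algebraMap _ _ w' * _ * _ :=
        (Units.mul_inv_cancel_right _ (IsLocalization.map_units (Mero.KStalk X x) (Mero.regGerm ⟨x, hxU'⟩ ⟨f', hf'⟩)).unit).symm
      _ = _ := by
        rw [mul_comm]
        congr 1
        rw [IsUnit.unit_spec, IsUnit.unit_spec]
        exact (map_mul _ _ _).symm.trans (congrArg _ hw')

variable [IsIntegral X] {L : X.Modules} (s : Coh.structureModule X ⟶ L)

/-- A section corresponding to `1` under a trivialisation by a divisor. -/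
theorem divisor_of_iso (hL : PicF.IsInvertible L) (hs : s ≠ 0) (D : Mero.Divisor X) (e : L ≅ Mero.divMod D)
    (hone : ∀ x : (⊤ : X.Opens), (toKm (e.hom.app ⊤ (sval L s ⊤))).1 x = 1) :
    (regSec s hL hs).divisor = D := by
  refine Subtype.ext (funext fun x => ?_)
  obtain ⟨U, hxU, g, hU⟩ := D.2 x
  let e' : Γ(L, U) := e.inv.app U (genSec D g hU)
  have he' : M2.IsGenerator e' := fun V hV => by
    have hb : Function.Bijective (e.inv.app V) :=
      (ConcreteCategory.isIso_iff_bijective _).1 inferInstance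
    have := hb.comp (genSec_bijective D g hU V hV)
    refine (congrArg Function.Bijective (funext fun r => ?_)).mp this
    change e.inv.app V (r • M1.mres (Mero.divMod D) hV (genSec D g hU)) = r • M1.mres L hV e'
    rw [Scheme.Modules.Hom.app_smul, M1.app_mres]
  obtain ⟨r, hr⟩ := (genSec_bijective D g hU U le_rfl).2
    (M1.mres (Mero.divMod D) (le_top : U ≤ ⊤) (e.hom.app ⊤ (sval L s ⊤)))
  have hr' : sval L s U = r • e' := by
    have h4 : ∀ t, e.inv.app U (e.hom.app U t) = t := fun t =>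
      ConcreteCategory.congr_hom (congrArg (fun φ : L ⟶ L => φ.app U) e.hom_inv_id) t
    rw [← h4 (sval L s U)]
    conv_lhs => rw [← mres_sval L s (le_top : U ≤ ⊤), M1.app_mres, ← hr]
    change e.inv.app U (r • M1.mres (Mero.divMod D) le_rfl (genSec D g hU)) = _
    rw [M1.mres_id, Scheme.Modules.Hom.app_smul]
  let C : (regSec s hL hs).Chart := ⟨U, e', g, he', fun y => by
    change inK _ = _
    rw [← germ_sval s y.2, hr', M1.germ_smul, inK_smul]
    congr 1
    have h5 := congrFun (congrArg Subtype.val hr) y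
    change (X.presheaf.germ U y.1 y.2 r • ((unitAt g⁻¹ y : (Mero.KStalk X y.1)ˣ) : Mero.KStalk X y.1)) =
      (toKm (e.hom.app ⊤ (sval L s ⊤))).1 ⟨y.1, Opens.mem_top y.1⟩ at h5
    rw [hone, Algebra.smul_def, unitAt, map_inv] at h5
    calc algebraMap _ (Mero.KStalk X y.1) (X.presheaf.germ U y.1 y.2 r)
        = algebraMap _ (Mero.KStalk X y.1) (X.presheaf.germ U y.1 y.2 r) *
            (((unitAt g y)⁻¹ : (Mero.KStalk X y.1)ˣ) : Mero.KStalk X y.1) *
            unitAt g y := (Units.inv_mul_cancel_right _ _).symm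
      _ = _ := (congrArg (· * _) h5).trans (one_mul _)⟩
  exact ((regSec s hL hs).divisor_eq C ⟨x, hxU⟩).trans (hU ⟨x, hxU⟩).symm

end Groth.Agent.MeroLib
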